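import Mathlib

/-!
Orders of isometries and of affine isometries of quadratic functions, and their behaviour under orthogonal sums
and linear equivalences.
-/

set_option autoImplicit false
set_option linter.unusedSectionVars false

namespace Cfsg.Agent.Lie.SpEight

variable {F : Type*} [Field F] {V W X : Type*} [AddCommGroup V] [Module F V] [AddCommGroup W] [Module F W]
  [AddCommGroup X] [Module F X]

variable (F) in
/-- The isometries of a function. -/
def isoF (Q : V → F) : Subgroup (V ≃ₗ[F] V) where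
  carrier := {g | ∀ x, Q (g x) = Q x}
  one_mem' _ := rfl
  mul_mem' {g h} hg hh x := (hg (h x)).trans (hh x)
  inv_mem' {g} hg x := by
    conv_rhs => rw [← g.apply_symm_apply x, hg]
    rfl

theorem mem_isoF {Q : V → F} {g : V ≃ₗ[F] V} : g ∈ isoF F Q ↔ ∀ x, Q (g x) = Q x := Iff.rfl

/-- The orthogonal sum of two functions. -/
def sumQ (Q : V → F) (Q' : W → F) (p : V × W) : F := Q p.1 + Q' p.2

/-- The linear equivalence of two functions. -/
def Sim (Q : V → F) (Q' : W → F) : Prop := ∃ L : V ≃ₗ[F] W, ∀ x, Q' (L x) = Q x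

/-- The affine map `x ↦ g x + v`. -/
def aff (g : V ≃ₗ[F] V) (v : V) : Equiv.Perm V := g.toEquiv.trans (Equiv.addRight v)

theorem aff_apply (g : V ≃ₗ[F] V) (v x : V) : aff g v x = g x + v := rfl

theorem aff_mul (g h : V ≃ₗ[F] V) (v w : V) : aff g v * aff h w = aff (g * h) (g w + v) := by
  ext x
  simp [aff_apply, add_assoc]

theorem aff_one : aff (1 : V ≃ₗ[F] V) 0 = 1 := by ext x; simp [aff_apply]

theorem aff_pow (g : V ≃ₗ[F] V) (v : V) : ∀ n : ℕ,
    aff g v ^ n = aff (g ^ n) (∑ i ∈ Finset.range n, (g ^ i) v)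
  | 0 => by simp [aff_one]
  | n + 1 => by
    rw [pow_succ', aff_pow g v n, aff_mul, ← pow_succ', Finset.sum_range_succ', map_sum]
    congr 1
    simp only [pow_succ', LinearEquiv.mul_apply, pow_zero, LinearEquiv.coe_one, id_eq]

theorem aff_eq_one {g : V ≃ₗ[F] V} {v : V} (h : aff g v = 1) : g = 1 ∧ v = 0 := by
  have hv : v = 0 := by simpa [aff_apply] using congrArg (fun f : Equiv.Perm V => f 0) h
  refine ⟨LinearEquiv.ext fun x => ?_, hv⟩
  simpa [aff_apply, hv] using congrArg (fun f : Equiv.Perm V => f x) h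

theorem orderOf_dvd_aff (g : V ≃ₗ[F] V) (v : V) : orderOf g ∣ orderOf (aff g v) := by
  refine orderOf_dvd_of_pow_eq_one ?_
  exact (aff_eq_one ((aff_pow g v _).symm.trans (pow_orderOf_eq_one _))).1

/-- Some isometry has order divisible by `r`. -/
def HasOrd (F : Type*) [Field F] {V : Type*} [AddCommGroup V] [Module F V] (Q : V → F) (r : ℕ) : Prop :=
  ∃ g ∈ isoF F Q, r ∣ orderOf g

/-- Some affine isometry with linear part of odd order has order divisible by `r`. -/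
def HasOddAff (F : Type*) [Field F] {V : Type*} [AddCommGroup V] [Module F V] (Q : V → F) (r : ℕ) : Prop :=
  ∃ g ∈ isoF F Q, Odd (orderOf g) ∧ ∃ v, r ∣ orderOf (aff g v)

/-- Some affine isometry has order divisible by `r`. -/
def HasAff (F : Type*) [Field F] {V : Type*} [AddCommGroup V] [Module F V] (Q : V → F) (r : ℕ) : Prop :=
  ∃ g ∈ isoF F Q, ∃ v, r ∣ orderOf (aff g v)

theorem HasOrd.one (Q : V → F) : HasOrd F Q 1 := ⟨1, one_mem _, one_dvd _⟩

theorem HasOddAff.one (Q : V → F) : HasOddAff F Q 1 := ⟨1, one_mem _, by simp, 0, one_dvd _⟩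

theorem HasOrd.hasAff {Q : V → F} {r : ℕ} (h : HasOrd F Q r) : HasAff F Q r := by
  obtain ⟨g, hg, hr⟩ := h
  exact ⟨g, hg, 0, hr.trans (orderOf_dvd_aff g 0)⟩

theorem HasOddAff.hasAff {Q : V → F} {r : ℕ} (h : HasOddAff F Q r) : HasAff F Q r := by
  obtain ⟨g, hg, -, hv⟩ := h
  exact ⟨g, hg, hv⟩

theorem hasOddAff_of_odd {Q : V → F} {g : V ≃ₗ[F] V} (hg : g ∈ isoF F Q) (ho : Odd (orderOf g)) {r : ℕ}
    (hr : r ∣ orderOf g) : HasOddAff F Q r :=
  ⟨g, hg, ho, 0, hr.trans (orderOf_dvd_aff g 0)⟩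

/-! ### Sums -/

/-- Pairs of linear equivalences act on the product. -/
def pairHom : (V ≃ₗ[F] V) × (W ≃ₗ[F] W) →* ((V × W) ≃ₗ[F] (V × W)) where
  toFun p := p.1.prodCongr p.2
  map_one' := LinearEquiv.ext fun _ => rfl
  map_mul' _ _ := LinearEquiv.ext fun _ => rfl

theorem pairHom_apply (g : V ≃ₗ[F] V) (h : W ≃ₗ[F] W) (x : V × W) : pairHom (g, h) x = (g x.1, h x.2) := rfl

theorem pairHom_injective : Function.Injective (pairHom : (V ≃ₗ[F] V) × (W ≃ₗ[F] W) → _) := fun p p' h =>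
  Prod.ext (LinearEquiv.ext fun x => congrArg Prod.fst (DFunLike.congr_fun h (x, 0)))
    (LinearEquiv.ext fun y => congrArg Prod.snd (DFunLike.congr_fun h (0, y)))

theorem pairHom_mem {Q : V → F} {Q' : W → F} {g : V ≃ₗ[F] V} {h : W ≃ₗ[F] W} (hg : g ∈ isoF F Q)
    (hh : h ∈ isoF F Q') : pairHom (g, h) ∈ isoF F (sumQ Q Q') := fun x => by
  simp [sumQ, pairHom_apply, hg x.1, hh x.2]

/-- Pairs of permutations act on the product. -/
def permPairHom : Equiv.Perm V × Equiv.Perm W →* Equiv.Perm (V × W) where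
  toFun p := p.1.prodCongr p.2
  map_one' := Equiv.ext fun _ => rfl
  map_mul' _ _ := Equiv.ext fun _ => rfl

theorem permPairHom_injective : Function.Injective (permPairHom : Equiv.Perm V × Equiv.Perm W → _) := fun p p' h =>
  Prod.ext (Equiv.ext fun x => congrArg Prod.fst (DFunLike.congr_fun h (x, 0)))
    (Equiv.ext fun y => congrArg Prod.snd (DFunLike.congr_fun h (0, y)))

theorem orderOf_aff_pair (g : V ≃ₗ[F] V) (h : W ≃ₗ[F] W) (v : V) (w : W) :
    orderOf (aff (pairHom (g, h)) (v, w)) = Nat.lcm (orderOf (aff g v)) (orderOf (aff h w)) := by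
  rw [show aff (pairHom (g, h)) (v, w) = permPairHom (aff g v, aff h w) from Equiv.ext fun _ => rfl,
    orderOf_injective _ permPairHom_injective, Prod.orderOf_mk]

theorem dvd_lcm_of_coprime {r r' a b : ℕ} (hc : r.Coprime r') (h : r ∣ a) (h' : r' ∣ b) :
    r * r' ∣ Nat.lcm a b :=
  hc.mul_dvd_of_dvd_of_dvd (h.trans (Nat.dvd_lcm_left _ _)) (h'.trans (Nat.dvd_lcm_right _ _))

theorem HasOrd.sum {Q : V → F} {Q' : W → F} {r r' : ℕ} (h : HasOrd F Q r) (h' : HasOrd F Q' r')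
    (hc : r.Coprime r') : HasOrd F (sumQ Q Q') (r * r') := by
  obtain ⟨g, hg, hr⟩ := h
  obtain ⟨g', hg', hr'⟩ := h'
  refine ⟨pairHom (g, g'), pairHom_mem hg hg', ?_⟩
  rw [orderOf_injective _ pairHom_injective, Prod.orderOf_mk]
  exact dvd_lcm_of_coprime hc hr hr'

theorem HasAff.sum {Q : V → F} {Q' : W → F} {r r' : ℕ} (h : HasAff F Q r) (h' : HasAff F Q' r')
    (hc : r.Coprime r') : HasAff F (sumQ Q Q') (r * r') := by
  obtain ⟨g, hg, v, hr⟩ := h
  obtain ⟨g', hg', v', hr'⟩ := h'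
  refine ⟨pairHom (g, g'), pairHom_mem hg hg', (v, v'), ?_⟩
  rw [orderOf_aff_pair]
  exact dvd_lcm_of_coprime hc hr hr'

theorem HasOddAff.sum {Q : V → F} {Q' : W → F} {r r' : ℕ} (h : HasOddAff F Q r) (h' : HasOddAff F Q' r')
    (hc : r.Coprime r') : HasOddAff F (sumQ Q Q') (r * r') := by
  obtain ⟨g, hg, ho, v, hr⟩ := h
  obtain ⟨g', hg', ho', v', hr'⟩ := h'
  refine ⟨pairHom (g, g'), pairHom_mem hg hg', ?_, (v, v'), ?_⟩
  · rw [orderOf_injective _ pairHom_injective, Prod.orderOf_mk]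
    exact (ho.mul ho').of_dvd_nat (Nat.lcm_dvd_mul _ _)
  · rw [orderOf_aff_pair]
    exact dvd_lcm_of_coprime hc hr hr'

/-! ### Linear equivalences -/

/-- Conjugation by a linear equivalence. -/
def conjL (L : V ≃ₗ[F] W) : (V ≃ₗ[F] V) →* (W ≃ₗ[F] W) where
  toFun g := L.symm.trans (g.trans L)
  map_one' := LinearEquiv.ext fun x => L.apply_symm_apply x
  map_mul' g h := LinearEquiv.ext fun x => by simp

theorem conjL_apply (L : V ≃ₗ[F] W) (g : V ≃ₗ[F] V) (x : W) : conjL L g x = L (g (L.symm x)) := rfl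

theorem conjL_injective (L : V ≃ₗ[F] W) : Function.Injective (conjL L) := fun g h e =>
  LinearEquiv.ext fun x => L.injective (by simpa [conjL_apply] using DFunLike.congr_fun e (L x))

theorem conjL_mem {Q : V → F} {Q' : W → F} (L : V ≃ₗ[F] W) (hL : ∀ x, Q' (L x) = Q x) {g : V ≃ₗ[F] V}
    (hg : g ∈ isoF F Q) : conjL L g ∈ isoF F Q' := fun x => by
  rw [conjL_apply, hL, hg, ← hL, L.apply_symm_apply]

theorem orderOf_aff_conj (L : V ≃ₗ[F] W) (g : V ≃ₗ[F] V) (v : V) :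
    orderOf (aff (conjL L g) (L v)) = orderOf (aff g v) := by
  rw [show aff (conjL L g) (L v) = L.toEquiv.permCongrHom (aff g v) from Equiv.ext fun x => by
    simp [aff_apply, conjL_apply, Equiv.permCongr_apply]]
  exact MulEquiv.orderOf_eq _ _

theorem HasOrd.sim {Q : V → F} {Q' : W → F} {r : ℕ} (h : HasOrd F Q r) (s : Sim Q Q') : HasOrd F Q' r := by
  obtain ⟨g, hg, hr⟩ := h
  obtain ⟨L, hL⟩ := s
  exact ⟨conjL L g, conjL_mem L hL hg, by rwa [orderOf_injective _ (conjL_injective L)]⟩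

theorem HasAff.sim {Q : V → F} {Q' : W → F} {r : ℕ} (h : HasAff F Q r) (s : Sim Q Q') : HasAff F Q' r := by
  obtain ⟨g, hg, v, hr⟩ := h
  obtain ⟨L, hL⟩ := s
  exact ⟨conjL L g, conjL_mem L hL hg, L v, by rwa [orderOf_aff_conj]⟩

theorem HasOddAff.sim {Q : V → F} {Q' : W → F} {r : ℕ} (h : HasOddAff F Q r) (s : Sim Q Q') :
    HasOddAff F Q' r := by
  obtain ⟨g, hg, ho, v, hr⟩ := h
  obtain ⟨L, hL⟩ := s
  exact ⟨conjL L g, conjL_mem L hL hg, by rwa [orderOf_injective _ (conjL_injective L)], L v,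
    by rwa [orderOf_aff_conj]⟩

theorem Sim.refl (Q : V → F) : Sim Q Q := ⟨LinearEquiv.refl F V, fun _ => rfl⟩

theorem Sim.trans {Q : V → F} {Q' : W → F} {Q'' : X → F} (h : Sim Q Q') (h' : Sim Q' Q'') : Sim Q Q'' := by
  obtain ⟨L, hL⟩ := h
  obtain ⟨L', hL'⟩ := h'
  exact ⟨L.trans L', fun x => by rw [LinearEquiv.trans_apply, hL', hL]⟩

theorem Sim.symm {Q : V → F} {Q' : W → F} (h : Sim Q Q') : Sim Q' Q := by
  obtain ⟨L, hL⟩ := h
  exact ⟨L.symm, fun x => by rw [← hL, L.apply_symm_apply]⟩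

theorem Sim.comm (Q : V → F) (Q' : W → F) : Sim (sumQ Q Q') (sumQ Q' Q) :=
  ⟨LinearEquiv.prodComm F V W, fun _ => add_comm _ _⟩

theorem Sim.assoc (Q : V → F) (Q' : W → F) (Q'' : X → F) :
    Sim (sumQ (sumQ Q Q') Q'') (sumQ Q (sumQ Q' Q'')) :=
  ⟨LinearEquiv.prodAssoc F V W X, fun _ => (add_assoc _ _ _).symm⟩

theorem Sim.congr {V' W' : Type*} [AddCommGroup V'] [Module F V'] [AddCommGroup W'] [Module F W'] {Q : V → F}
    {Q' : W → F} {R : V' → F} {R' : W' → F} (h : Sim Q R) (h' : Sim Q' R') : Sim (sumQ Q Q') (sumQ R R') := by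
  obtain ⟨L, hL⟩ := h
  obtain ⟨L', hL'⟩ := h'
  exact ⟨L.prodCongr L', fun x => by simp [sumQ, hL, hL']⟩

end Cfsg.Agent.Lie.SpEight
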