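import Mathlib

/-!
The maximal element orders of `Sp₈(q)`, `q` even, and the combinatorics showing that they cover every admissible
collection of torus factors and unipotent exponent.
-/

set_option autoImplicit false

namespace Cfsg.Agent.Lie.SpEight

/-- The number attached to an index. -/
def maxOrd (q : ℕ) : Fin 13 → ℕ :=
  ![q ^ 4 + 1, q ^ 4 - 1, (q ^ 3 - 1) * (q + 1), (q ^ 3 + 1) * (q - 1), 2 * (q ^ 3 + 1), 2 * (q ^ 3 - 1),
    2 * ((q ^ 2 + 1) * (q + 1)), 2 * ((q ^ 2 + 1) * (q - 1)), 2 * (q ^ 2 - 1), 4 * (q ^ 2 + 1), 4 * (q ^ 2 - 1),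
    8 * (q + 1), 8 * (q - 1)]

/-- The unipotent exponent of an index. -/
def expo : Fin 13 → ℕ := ![0, 0, 0, 0, 1, 1, 1, 1, 1, 2, 2, 3, 3]

/-- The odd part. -/
def oddPart (q : ℕ) : Fin 13 → ℕ :=
  ![q ^ 4 + 1, q ^ 4 - 1, (q ^ 3 - 1) * (q + 1), (q ^ 3 + 1) * (q - 1), q ^ 3 + 1, q ^ 3 - 1,
    (q ^ 2 + 1) * (q + 1), (q ^ 2 + 1) * (q - 1), q ^ 2 - 1, q ^ 2 + 1, q ^ 2 - 1, q + 1, q - 1]

theorem maxOrd_eq (q : ℕ) (i : Fin 13) : maxOrd q i = 2 ^ expo i * oddPart q i := by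
  fin_cases i <;> simp [maxOrd, expo, oddPart]

/-- The degrees `d` with `q ^ d + 1` dividing the odd part. -/
def covA : Fin 13 → Finset ℕ :=
  ![{4}, {1, 2}, {1}, {1, 3}, {1, 3}, ∅, {1, 2}, {2}, {1}, {2}, {1}, {1}, ∅]

/-- The degrees `d` with `q ^ d - 1` dividing the odd part. -/
def covB : Fin 13 → Finset ℕ :=
  ![∅, {1, 2, 4}, {1, 3}, {1}, ∅, {1, 3}, ∅, {1}, {1, 2}, ∅, {1, 2}, ∅, {1}]

theorem add_one_dvd_cube (q : ℕ) : q + 1 ∣ q ^ 3 + 1 := by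
  simpa using (Odd.nat_add_dvd_pow_add_pow q 1 (by decide : Odd 3))

theorem add_one_dvd_sq_sub (q : ℕ) : q + 1 ∣ q ^ 2 - 1 := ⟨q - 1, by rw [← Nat.sq_sub_sq, one_pow]⟩

theorem sq_sub_dvd_four (q : ℕ) : q ^ 2 - 1 ∣ q ^ 4 - 1 := Nat.pow_sub_one_dvd_pow_sub_one q (by norm_num)

theorem sq_add_dvd_four (q : ℕ) : q ^ 2 + 1 ∣ q ^ 4 - 1 :=
  ⟨q ^ 2 - 1, by rw [← Nat.sq_sub_sq, one_pow]; ring_nf⟩

theorem covA_dvd (q : ℕ) (i : Fin 13) {d : ℕ} (hd : d ∈ covA i) : q ^ d + 1 ∣ oddPart q i := by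
  have h1 := add_one_dvd_cube q
  have h2 := add_one_dvd_sq_sub q
  have h3 := h2.trans (sq_sub_dvd_four q)
  have h4 := sq_add_dvd_four q
  fin_cases i <;> simp [covA] at hd <;> (try rcases hd with rfl | rfl) <;> (try subst hd) <;>
    simp [oddPart] <;>
    first
      | assumption
      | exact h1.mul_right _
      | exact h2.mul_left _

theorem covB_dvd (q : ℕ) (i : Fin 13) {d : ℕ} (hd : d ∈ covB i) : q ^ d - 1 ∣ oddPart q i := by
  have h1 : q - 1 ∣ q ^ 3 - 1 := Nat.sub_one_dvd_pow_sub_one q 3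
  have h2 : q - 1 ∣ q ^ 2 - 1 := Nat.sub_one_dvd_pow_sub_one q 2
  have h3 : q - 1 ∣ q ^ 4 - 1 := Nat.sub_one_dvd_pow_sub_one q 4
  have h4 := sq_sub_dvd_four q
  fin_cases i <;> simp [covB] at hd <;> (try rcases hd with rfl | rfl | rfl) <;> (try rcases hd with rfl | rfl) <;>
    (try subst hd) <;> simp [oddPart] <;>
    first
      | assumption
      | exact h1.mul_right _

theorem cover_table : ∀ k ∈ Finset.range 4, ∀ A ∈ (Finset.Icc 1 4).powerset, ∀ B ∈ (Finset.Icc 1 4).powerset,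
    A.sum id + B.sum id + k ≤ 4 → ∃ i : Fin 13, k ≤ expo i ∧ A ⊆ covA i ∧ B ⊆ covB i := by
  decide +kernel

/-- Every admissible collection is covered. -/
theorem cover (k : ℕ) (hk : k ≤ 3) (A B : Finset ℕ) (hA : ∀ d ∈ A, 0 < d) (hB : ∀ d ∈ B, 0 < d)
    (h : (∑ d ∈ A, d) + (∑ d ∈ B, d) + k ≤ 4) : ∃ i : Fin 13, k ≤ expo i ∧ A ⊆ covA i ∧ B ⊆ covB i := by
  refine cover_table k (Finset.mem_range.2 (by omega)) A (Finset.mem_powerset.2 fun d hd => ?_) B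
    (Finset.mem_powerset.2 fun d hd => ?_) h
  · have := Finset.single_le_sum (f := fun d : ℕ => d) (fun _ _ => Nat.zero_le _) hd
    exact Finset.mem_Icc.2 ⟨hA d hd, by omega⟩
  · have := Finset.single_le_sum (f := fun d : ℕ => d) (fun _ _ => Nat.zero_le _) hd
    exact Finset.mem_Icc.2 ⟨hB d hd, by omega⟩

end Cfsg.Agent.Lie.SpEight
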