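import Cfsg.Agent.Lib.Lie.SpEight.Ext
import Cfsg.Agent.Lib.Classical.OrthForms
import Cfsg.Agent.Lib.Classical.OrthPlane
import Cfsg.Agent.Lib.Small.OrthogonalPrimeClasses
import Cfsg.Agent.Lib.Small.ClassicalHom
import Cfsg.Agent.Lib.Small.FieldMatrix

/-!
Hyperbolic and elliptic models in characteristic two with their tori, and the elementary pieces from which the
elements of maximal order are put together.
-/

set_option autoImplicit false
set_option linter.unusedSectionVars false
set_option linter.style.haveILetI false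

namespace Cfsg.Agent.Lie.SpEight

open QuadraticMap Matrix Cfsg.Agent.Classical Cfsg.Agent.Small

variable {F : Type*} [Field F]

/-- The hyperbolic function of dimension `2 m`. -/
def hyp (F : Type*) [Field F] (m : ℕ) (p : (Fin m → F) × (Fin m → F)) : F := ∑ i, p.1 i * p.2 i

/-- The binary form. -/
def nQ (a b : F) (z : F × F) : F := z.1 ^ 2 + a * z.1 * z.2 + b * z.2 ^ 2

/-- The elliptic function of dimension `2 m + 2`. -/
def ell (m : ℕ) (a b : F) : ((Fin m → F) × (Fin m → F)) × (F × F) → F := sumQ (hyp F m) (nQ a b)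

/-! ### Linear equivalences -/

theorem sim_hyp_add (m n : ℕ) : Sim (sumQ (hyp F m) (hyp F n)) (hyp F (m + n)) := by
  let L : ((Fin m → F) × (Fin n → F)) ≃ₗ[F] (Fin (m + n) → F) :=
    (LinearEquiv.sumArrowLequivProdArrow (Fin m) (Fin n) F F).symm.trans
      (LinearEquiv.funCongrLeft F F finSumFinEquiv.symm)
  refine ⟨(LinearEquiv.prodProdProdComm F _ _ _ _).trans (L.prodCongr L), fun p => ?_⟩
  simp only [hyp, sumQ, L, LinearEquiv.trans_apply, LinearEquiv.prodProdProdComm_apply, LinearEquiv.prodCongr_apply,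
    LinearEquiv.funCongrLeft_apply, LinearMap.funLeft_apply]
  rw [← finSumFinEquiv.sum_comp, Fintype.sum_sum_type]
  simp [LinearEquiv.sumArrowLequivProdArrow]

theorem sim_plus (m : ℕ) : Sim (Cfsg.quadFormPlus m F) (hyp F m) :=
  ⟨LinearEquiv.sumArrowLequivProdArrow _ _ F F, fun v => by
    simp [hyp, Cfsg.quadFormPlus, LinearEquiv.sumArrowLequivProdArrow]⟩

theorem sim_minus (m : ℕ) (a b : F) : Sim (Cfsg.quadFormMinus m F a b) (ell m a b) :=
  ⟨(LinearEquiv.sumArrowLequivProdArrow _ _ F F).trans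
      ((LinearEquiv.sumArrowLequivProdArrow _ _ F F).prodCongr (LinearEquiv.finTwoArrow F F)), fun v => by
    simp [hyp, ell, nQ, sumQ, Cfsg.quadFormMinus, LinearEquiv.sumArrowLequivProdArrow, LinearEquiv.finTwoArrow]⟩

theorem sim_one : Sim (fun p : F × F => p.1 * p.2) (hyp F 1) :=
  ⟨(LinearEquiv.funUnique (Fin 1) F F).symm.prodCongr (LinearEquiv.funUnique (Fin 1) F F).symm, fun p => by
    simp [hyp]⟩

theorem sim_ell_zero (a b : F) : Sim (nQ a b) (ell 0 a b) :=
  ⟨{ toFun := fun p => ((0, 0), p)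
     invFun := fun x => x.2
     map_add' := fun p p' => by simp
     map_smul' := fun c p => by simp
     left_inv := fun p => rfl
     right_inv := fun x => Prod.ext (Subsingleton.elim _ _) rfl }, fun p => by
    simp [ell, sumQ, hyp]⟩

theorem sim_hyp_ell (m n : ℕ) (a b : F) : Sim (sumQ (hyp F m) (ell n a b)) (ell (m + n) a b) :=
  (Sim.assoc _ _ _).symm.trans ((sim_hyp_add m n).congr (Sim.refl _))

theorem sim_hyp_nQ (m : ℕ) (a b : F) : Sim (sumQ (hyp F m) (nQ a b)) (ell m a b) := Sim.refl _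

theorem sim_ell_hyp (m n : ℕ) (a b : F) : Sim (sumQ (ell m a b) (hyp F n)) (ell (n + m) a b) :=
  (Sim.comm _ _).trans (sim_hyp_ell n m a b)

section CharTwo

variable [CharP F 2] [Fintype F] (a b : F)
  (hab : ∀ z₁ z₂ : F, z₁ ^ 2 + a * z₁ * z₂ + b * z₂ ^ 2 = 0 → z₁ = 0 ∧ z₂ = 0)

include hab in
theorem coeff_ne_zero : a ≠ 0 := fun h => by
  obtain ⟨s, hs⟩ := FiniteField.isSquare_of_char_two (ringChar.eq F 2) b
  exact one_ne_zero (hab s 1 (by rw [h, hs]; linear_combination s * s * CharTwo.two_eq_zero (R := F))).2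

include hab in
theorem sim_two_planes : Sim (sumQ (nQ a b) (nQ a b)) (hyp F 2) := by
  have ha := coeff_ne_zero a b hab
  have h2 : (2 : F) = 0 := CharTwo.two_eq_zero
  let f : (F × F) × (F × F) →ₗ[F] (Fin 2 → F) × (Fin 2 → F) :=
    { toFun := fun p => (![p.1.1 + p.2.1, p.1.2 + p.2.2],
        ![(p.1.1 + p.2.1) + a * (p.1.2 + p.2.2) + a * p.1.2, b * (p.1.2 + p.2.2) + a * p.1.1])
      map_add' := fun p p' => by
        refine Prod.ext ?_ ?_ <;> funext i <;> fin_cases i <;> simp <;> ring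
      map_smul' := fun s p => by
        refine Prod.ext ?_ ?_ <;> funext i <;> fin_cases i <;> simp <;> ring }
  have hinj : Function.Injective f := by
    rw [← LinearMap.ker_eq_bot, LinearMap.ker_eq_bot']
    rintro ⟨⟨z1, z2⟩, ⟨w1, w2⟩⟩ h
    simp only [f, LinearMap.coe_mk, AddHom.coe_mk, Prod.mk_eq_zero] at h
    have h1 : z1 + w1 = 0 := by simpa using congrFun h.1 0
    have h3 : z2 + w2 = 0 := by simpa using congrFun h.1 1
    have h4 : a * z2 = 0 := by simpa [h1, h3] using congrFun h.2 0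
    have h5 : a * z1 = 0 := by simpa [h1, h3] using congrFun h.2 1
    obtain rfl := (mul_eq_zero.1 h4).resolve_left ha
    obtain rfl := (mul_eq_zero.1 h5).resolve_left ha
    rw [zero_add] at h1 h3
    subst h1 h3
    rfl
  have hdim : Module.finrank F ((F × F) × (F × F)) = Module.finrank F ((Fin 2 → F) × (Fin 2 → F)) := by
    simp [Module.finrank_prod]
  refine ⟨LinearMap.linearEquivOfInjective f hinj hdim, fun p => ?_⟩
  rw [LinearMap.linearEquivOfInjective_apply]
  simp only [f, LinearMap.coe_mk, AddHom.coe_mk, hyp, sumQ, nQ, Fin.sum_univ_two, Matrix.cons_val_zero,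
    Matrix.cons_val_one]
  linear_combination (p.1.1 * p.2.1 + a * p.1.1 * p.1.2 + a * p.1.1 * p.2.2 + a * p.1.2 * p.2.1 +
    b * p.1.2 * p.2.2) * h2

include hab in
theorem sim_ell_ell (m n : ℕ) : Sim (sumQ (ell m a b) (ell n a b)) (hyp F (m + n + 2)) := by
  refine (Sim.assoc _ _ _).trans ?_
  refine ((Sim.refl _).congr ((Sim.comm _ _).trans (Sim.assoc _ _ _))).trans ?_
  refine ((Sim.refl _).congr ((Sim.refl _).congr (sim_two_planes a b hab))).trans ?_
  refine ((Sim.refl _).congr (sim_hyp_add n 2)).trans ?_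
  rw [add_assoc]
  exact sim_hyp_add m (n + 2)

/-! ### Tori -/

/-- A matrix group acting as linear equivalences over a subfield. -/
noncomputable def toEquivHom {ι : Type} [Fintype ι] [DecidableEq ι] (K : Type*) [Field K] [Algebra F K] :
    GL ι K →* ((ι → K) ≃ₗ[F] (ι → K)) :=
  MonoidHom.mk' (fun g => (LinearMap.GeneralLinearGroup.generalLinearEquiv K (ι → K)
      (Matrix.GeneralLinearGroup.toLin g)).restrictScalars F)
    fun g h => LinearEquiv.ext fun x => by simp

theorem toEquivHom_apply {ι : Type} [Fintype ι] [DecidableEq ι] {K : Type*} [Field K] [Algebra F K] (g : GL ι K)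
    (x : ι → K) : toEquivHom (F := F) K g x = g.1 *ᵥ x := rfl

theorem toEquivHom_injective {ι : Type} [Fintype ι] [DecidableEq ι] {K : Type*} [Field K] [Algebra F K] :
    Function.Injective (toEquivHom (F := F) (ι := ι) K) := fun g h e =>
  Units.ext (Matrix.ext_of_mulVec_single fun i => by
    simpa [toEquivHom_apply] using DFunLike.congr_fun e (Pi.single i 1))

theorem odd_plus {d : ℕ} (hd : 1 ≤ d) : Odd (Fintype.card F ^ d + 1) :=
  ((Nat.even_iff.2 (FiniteField.even_card_of_char_two (ringChar.eq F 2))).pow_of_ne_zero (by omega)).add_one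

theorem odd_minus {d : ℕ} (hd : 1 ≤ d) : Odd (Fintype.card F ^ d - 1) := by
  refine Nat.Even.sub_odd (Nat.one_le_pow _ _ Fintype.card_pos) ?_ odd_one
  exact (Nat.even_iff.2 (FiniteField.even_card_of_char_two (ringChar.eq F 2))).pow_of_ne_zero (by omega)

/-- The Singer torus on the hyperbolic space. -/
theorem exists_torus_plus {d : ℕ} (hd : 1 ≤ d) : ∃ g ∈ isoF F (hyp F d), orderOf g = Fintype.card F ^ d - 1 := by
  obtain ⟨s, hs⟩ := exists_singer (F := F) d hd
  obtain ⟨L, hL⟩ := sim_plus (F := F) d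
  refine ⟨conjL L (toEquivHom F (plusHom d F s).1), conjL_mem L hL fun x => ?_, ?_⟩
  · rw [toEquivHom_apply]
    exact (plusHom d F s).2 x x
  · rw [orderOf_injective _ (conjL_injective L), orderOf_injective _ toEquivHom_injective, Subgroup.orderOf_coe,
      orderOf_injective _ (plusHom_injective d), hs, Nat.card_eq_fintype_card]

include hab in
/-- The Singer torus on the elliptic space. -/
theorem exists_torus_minus {d : ℕ} (hd : 1 ≤ d) :
    ∃ g ∈ isoF F (ell (d - 1) a b), orderOf g = Fintype.card F ^ d + 1 := by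
  classical
  haveI : Fact (Nat.Prime 2) := ⟨Nat.prime_two⟩
  haveI : NeZero d := ⟨by omega⟩
  let K := FiniteField.Extension F 2 d
  have hK : Module.finrank F K = d := FiniteField.finrank_extension F 2 d
  haveI : Module.Finite F K := Module.finite_of_finrank_eq_succ (n := d - 1) (by omega)
  haveI : Finite K := Module.finite_of_finite F
  letI := Fintype.ofFinite K
  haveI : CharP K 2 := charP_of_injective_algebraMap (algebraMap F K).injective 2
  obtain ⟨a', c', hac⟩ := QuadModels.exists_aniso (F := K)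
  haveI := OPlane.cyclic_rots hac
  obtain ⟨ρ, hρ⟩ := IsCyclic.exists_generator (α := ↥(OPlane.rots a' c'))
  set q := Fintype.card F
  have hcK : Fintype.card K = q ^ d := by rw [Module.card_eq_pow_finrank (K := F), hK]
  have hc : Nat.card ↥(OPlane.rots a' c') = q ^ d + 1 := by
    have h := (OPlane.rots a' c').card_mul_index
    rw [OPlane.index_rots hac, OCount.card_GO_minus 0 a' c' hac] at h
    simp [hcK, -Nat.card_eq_fintype_card] at h
    omega
  have hord : orderOf ρ = q ^ d + 1 := by rw [orderOf_eq_card_of_forall_mem_zpowers hρ, hc]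
  -- the form over the small field
  let T : QuadraticForm K ((Fin 0 ⊕ Fin 0) ⊕ Fin 2 → K) :=
    OOmega.formOf 0 (Equiv.refl _) (OCount.planeForm a' c')
  have hT : ⇑T = Cfsg.quadFormMinus 0 K a' c' := OOmega.coe_minus 0 a' c'
  have hTp : OCount.PND T := OOmega.formOf_pnd (OOmega.pnd_plane hac)
  let W : QuadraticForm F ((Fin 0 ⊕ Fin 0) ⊕ Fin 2 → K) := (Algebra.trace F K).compQuadraticMap' T
  have hWv : ∀ z, W z = Algebra.trace F K (Cfsg.quadFormMinus 0 K a' c' z) := fun z => by
    rw [← hT]; rfl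
  have hWp : OCount.PND W := fun v hv => hTp v fun w => by
    have h : ∀ k : K, Algebra.traceForm F K (polar T v w) k = 0 := fun k => by
      have := hv (k • w)
      rw [LinearMap.compQuadraticMap_polar, polar_smul_right, smul_eq_mul, mul_comm] at this
      rw [Algebra.traceForm_apply]
      exact this
    exact (traceForm_nondegenerate F K).1 _ h
  have hdim : Module.finrank F ((Fin 0 ⊕ Fin 0) ⊕ Fin 2 → K) = 2 * d := by
    rw [Module.finrank_pi_fintype, Finset.sum_const, hK]
    simp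
  -- the action
  let act : ↥(OPlane.rots a' c') →* (((Fin 0 ⊕ Fin 0) ⊕ Fin 2 → K) ≃ₗ[F] ((Fin 0 ⊕ Fin 0) ⊕ Fin 2 → K)) :=
    (toEquivHom (F := F) K).comp ((Cfsg.isometryGroup K (Cfsg.quadFormMinus 0 K a' c')).subtype.comp
      (OPlane.rots a' c').subtype)
  have hinj : Function.Injective act :=
    toEquivHom_injective.comp (Subtype.val_injective.comp Subtype.val_injective)
  have hpres : ∀ g z, W (act g z) = W z := fun g z => by
    rw [hWv, hWv]
    exact congrArg _ (g.1.2 z z)
  have hfree : ∀ g z, act g z = z → z ≠ 0 → g = 1 := by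
    intro g z hgz hz
    obtain ⟨u, v, huv, hg⟩ := g.2
    have hgz' : g.1.1.1 *ᵥ z = z := hgz
    rw [hg, OPlane.rot] at hgz'
    have e0 := congrFun hgz' (.inr 0)
    have e1 := congrFun hgz' (.inr 1)
    rw [(OPlane.mulVec_m2 u (-(c' * v)) v (u + a' * v) z).1] at e0
    rw [(OPlane.mulVec_m2 u (-(c' * v)) v (u + a' * v) z).2] at e1
    have hN : (u - 1) ^ 2 + a' * (u - 1) * v + c' * v ^ 2 = 0 := by
      by_contra hN
      refine hz (funext fun i => ?_)
      rcases i with (i | i) | i
      · exact i.elim0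
      · exact i.elim0
      · fin_cases i
        · exact (mul_eq_zero.1 (show ((u - 1) ^ 2 + a' * (u - 1) * v + c' * v ^ 2) * z (.inr 0) = 0 by
            linear_combination (u - 1 + a' * v) * e0 + c' * v * e1)).resolve_left hN
        · exact (mul_eq_zero.1 (show ((u - 1) ^ 2 + a' * (u - 1) * v + c' * v ^ 2) * z (.inr 1) = 0 by
            linear_combination -v * e0 + (u - 1) * e1)).resolve_left hN
    obtain ⟨hu, hv⟩ := hac _ _ hN
    refine Subtype.ext (Subtype.ext (Units.ext ?_))
    rw [hg, sub_eq_zero.1 hu, hv, OPlane.rot]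
    simp only [mul_zero, neg_zero, add_zero]
    exact OPlane.m2_one
  let e₀ : (Fin (2 * d) → F) ≃ₗ[F] ((Fin 0 ⊕ Fin 0) ⊕ Fin 2 → K) :=
    (Module.finBasisOfFinrankEq F _ hdim).equivFun.symm
  let W₀ : QuadraticForm F (Fin (2 * d) → F) := W.comp e₀.toLinearMap
  have hW₀p : OCount.PND W₀ := fun v hv => by
    refine e₀.injective ((hWp (e₀ v) fun w => ?_).trans (map_zero e₀).symm)
    have := hv (e₀.symm w)
    simpa [W₀, polar, QuadraticMap.comp_apply] using this
  have hcard₀ : Nat.card {v // W₀ v = 1} = Nat.card {z // W z = 1} :=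
    Nat.card_congr (e₀.toEquiv.subtypeEquiv fun v => Iff.rfl)
  rcases OrthogonalPrimeClasses.even_count W₀ hd (by simp) hW₀p a b hab with ⟨-, hcount⟩ | ⟨⟨L₀, hL₀⟩, -⟩
  · exfalso
    letI : MulAction ↥(OPlane.rots a' c') {z // W z = 1} :=
      { smul := fun g z => ⟨act g z.1, by rw [hpres]; exact z.2⟩
        one_smul := fun z => Subtype.ext (by change act 1 z.1 = z.1; rw [map_one]; rfl)
        mul_smul := fun g h z => Subtype.ext (by change act (g * h) z.1 = act g (act h z.1); rw [map_mul]; rfl) }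
    have hdvd : q ^ d + 1 ∣ Nat.card {z // W z = 1} := by
      rw [← hc]
      refine ⟨Nat.card (MulAction.orbitRel.Quotient ↥(OPlane.rots a' c') {z // W z = 1}), ?_⟩
      have hst : ∀ z : {z // W z = 1}, MulAction.stabilizer ↥(OPlane.rots a' c') z = ⊥ := fun z =>
        (Subgroup.eq_bot_iff_forall _).2 fun g hg => hfree g z.1 (congrArg Subtype.val hg) fun h =>
          one_ne_zero (z.2.symm.trans (by rw [h, QuadraticMap.map_zero]))
      rw [Nat.card_congr (MulAction.selfEquivOrbitsQuotientProd hst), Nat.card_prod, mul_comm]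
    rw [← hcard₀, hcount] at hdvd
    have hq2 : 2 ≤ q := Fintype.one_lt_card
    have hco : (q ^ d + 1).Coprime (q ^ (d - 1)) := by
      refine Nat.Coprime.pow_right _ ?_
      obtain ⟨k, hk⟩ := dvd_pow_self q (show d ≠ 0 by omega)
      rw [hk, Nat.coprime_comm, mul_comm]
      simpa using (Nat.coprime_mul_left_add_right q 1 k).2 (Nat.coprime_one_right q)
    have h1 : 0 < q ^ d - 1 := Nat.sub_pos_of_lt (Nat.one_lt_pow (by omega) hq2)
    have := Nat.le_of_dvd h1 (hco.dvd_of_dvd_mul_right hdvd)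
    omega
  · obtain ⟨L', hL'⟩ := sim_minus (F := F) (d - 1) a b
    let L := L₀.trans e₀
    have hL : ∀ v, W (L v) = Cfsg.quadFormMinus (d - 1) F a b v := fun v => hL₀ v
    refine ⟨conjL (L.symm.trans L') (act ρ), conjL_mem _ (fun x => ?_) (hpres ρ), ?_⟩
    · rw [LinearEquiv.trans_apply, hL', ← hL, L.apply_symm_apply]
    · rw [orderOf_injective _ (conjL_injective _), orderOf_injective _ hinj, hord]

theorem hasOrd_plus {d : ℕ} (hd : 1 ≤ d) : HasOrd F (hyp F d) (Fintype.card F ^ d - 1) := by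
  obtain ⟨g, hg, ho⟩ := exists_torus_plus (F := F) hd
  exact ⟨g, hg, ho ▸ dvd_rfl⟩

theorem oddAff_plus {d : ℕ} (hd : 1 ≤ d) : HasOddAff F (hyp F d) (Fintype.card F ^ d - 1) := by
  obtain ⟨g, hg, ho⟩ := exists_torus_plus (F := F) hd
  exact hasOddAff_of_odd hg (ho ▸ odd_minus hd) (ho ▸ dvd_rfl)

include hab in
theorem hasOrd_minus {d : ℕ} (hd : 1 ≤ d) : HasOrd F (ell (d - 1) a b) (Fintype.card F ^ d + 1) := by
  obtain ⟨g, hg, ho⟩ := exists_torus_minus a b hab hd
  exact ⟨g, hg, ho ▸ dvd_rfl⟩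

include hab in
theorem oddAff_minus {d : ℕ} (hd : 1 ≤ d) : HasOddAff F (ell (d - 1) a b) (Fintype.card F ^ d + 1) := by
  obtain ⟨g, hg, ho⟩ := exists_torus_minus a b hab hd
  exact hasOddAff_of_odd hg (ho ▸ odd_plus hd) (ho ▸ dvd_rfl)

/-! ### Pieces of two-power order -/

theorem oddAff_two {V : Type*} [AddCommGroup V] [Module F V] [Nontrivial V] (Q : V → F) : HasOddAff F Q 2 := by
  obtain ⟨v, hv⟩ := exists_ne (0 : V)
  haveI : Fact (Nat.Prime 2) := ⟨Nat.prime_two⟩
  refine ⟨1, one_mem _, by simp, v, dvd_of_eq (orderOf_eq_prime ?_ fun h => hv (aff_eq_one h).2).symm⟩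
  rw [pow_two, aff_mul, one_mul, LinearEquiv.coe_one, id, ← two_smul F, CharTwo.two_eq_zero, zero_smul, aff_one]

section Reflection

variable {V : Type*} [AddCommGroup V] [Module F V] [FiniteDimensional F V] {Q : QuadraticForm F V} {z w : V}

theorem hasOrd_two (hz : Q z ≠ 0) (hzw : polar Q z w ≠ 0) : HasOrd F ⇑Q 2 := by
  haveI : Fact (Nat.Prime 2) := ⟨Nat.prime_two⟩
  refine ⟨ORefl.refl Q z, ORefl.refl_mem z, dvd_of_eq (orderOf_eq_prime ?_ ?_).symm⟩
  · rw [pow_two, ORefl.refl_mul_self]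
  intro h
  have := DFunLike.congr_fun h w
  rw [ORefl.refl_apply, LinearEquiv.coe_one, id, sub_eq_self, smul_eq_zero, mul_eq_zero, inv_eq_zero] at this
  rcases this with (h' | h') | h'
  · exact hz h'
  · exact hzw h'
  · exact hz (by rw [h', QuadraticMap.map_zero])

theorem hasAff_four (hz : Q z ≠ 0) (hzw : polar Q z w ≠ 0) : HasAff F ⇑Q 4 := by
  haveI : Fact (Nat.Prime 2) := ⟨Nat.prime_two⟩
  refine ⟨ORefl.refl Q z, ORefl.refl_mem z, w, dvd_of_eq (orderOf_eq_prime_pow (p := 2) (n := 1) ?_ ?_).symm⟩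
  · intro h
    rw [aff_pow] at h
    have h' := (aff_eq_one h).2
    simp only [Finset.sum_range_succ, Finset.sum_range_zero, pow_one, pow_zero, LinearEquiv.coe_one, id,
      zero_add, ORefl.refl_apply] at h'
    rw [sub_eq_add_neg, ← add_assoc, add_self_zero F, zero_add, neg_eq_zero, smul_eq_zero, mul_eq_zero,
      inv_eq_zero] at h'
    rcases h' with (h' | h') | h'
    · exact hz h'
    · exact hzw h'
    · exact hz (by rw [h', QuadraticMap.map_zero])
  · have hr : ORefl.refl Q z ^ (2 : ℕ) = 1 := by rw [pow_two, ORefl.refl_mul_self]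
    rw [show 2 ^ (1 + 1) = 2 + 2 from rfl, aff_pow, pow_add, hr, one_mul, Finset.sum_range_add]
    simp only [pow_add, hr, one_mul]
    rw [add_self_zero F, aff_one]

end Reflection

theorem exists_plane_hyp : ∃ (P : QuadraticForm F (F × F)) (z w : F × F), P z ≠ 0 ∧ polar P z w ≠ 0 ∧
    Sim ⇑P (hyp F 1) := by
  refine ⟨linMulLin (LinearMap.fst F F F) (LinearMap.snd F F F), (1, 1), (1, 0), by simp, by simp [polar], ?_⟩
  obtain ⟨L, hL⟩ := sim_one (F := F)
  exact ⟨L, fun x => hL x⟩

include hab in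
theorem exists_plane_ell : ∃ (P : QuadraticForm F (F × F)) (z w : F × F), P z ≠ 0 ∧ polar P z w ≠ 0 ∧
    Sim ⇑P (ell 0 a b) := by
  have ha := coeff_ne_zero a b hab
  refine ⟨linMulLin (LinearMap.fst F F F) (LinearMap.fst F F F) + a • linMulLin (LinearMap.fst F F F)
    (LinearMap.snd F F F) + b • linMulLin (LinearMap.snd F F F) (LinearMap.snd F F F), (1, 0), (0, 1), by simp,
    by simp [polar]; ring_nf; exact ha, ?_⟩
  obtain ⟨L, hL⟩ := sim_ell_zero a b
  exact ⟨L, fun x => by rw [hL]; simp [nQ]; ring⟩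

theorem sim_ext_hyp {V : Type*} [AddCommGroup V] [Module F V] [FiniteDimensional F V] {P : QuadraticForm F V} {m : ℕ}
    (h : Sim ⇑P (hyp F m)) : Sim ⇑(extForm P) (hyp F (1 + m)) := by
  rw [coe_extForm]
  exact ((sim_one (F := F)).congr h).trans (sim_hyp_add 1 m)

theorem sim_ext_ell {V : Type*} [AddCommGroup V] [Module F V] [FiniteDimensional F V] {P : QuadraticForm F V} {m : ℕ}
    (h : Sim ⇑P (ell m a b)) : Sim ⇑(extForm P) (ell (1 + m) a b) := by
  rw [coe_extForm]
  exact ((sim_one (F := F)).congr h).trans (sim_hyp_ell 1 m a b)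

end CharTwo

end Cfsg.Agent.Lie.SpEight
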