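import Cfsg.Agent.Lib.Classical.IsometryOrderBound
import Cfsg.Agent.Lib.Lie.SpEight.Cover

/-!
Every isometry of a nondegenerate bilinear form in dimension at most eight in characteristic two is killed by one
of the thirteen numbers; if moreover the moved space has even dimension, so is every element of the affine extension.
-/

set_option autoImplicit false
set_option linter.unusedSectionVars false
set_option linter.style.haveILetI false

namespace Cfsg.Agent.Lie.SpEight

open Polynomial UniqueFactorizationMonoid Cfsg.Agent.Classical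

variable {F : Type*} [Field F] {V : Type*} [AddCommGroup V] [Module F V] [FiniteDimensional F V]

/-- An endomorphism with eigenvalue one whose minimal polynomial has degree the dimension moves a hyperplane. -/
theorem rank_of_cyclic (g : Module.End F V) (h1 : X - 1 ∣ minpoly F g)
    (hd : (minpoly F g).natDegree = Module.finrank F V) :
    Module.finrank F (LinearMap.range (g - 1)) + 1 = Module.finrank F V := by
  have hint : IsIntegral F g := IsIntegral.of_finite F g
  set f : Module.End F V := g - 1 with hf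
  obtain ⟨r, hr⟩ := h1
  have hr0 : r ≠ 0 := fun h => minpoly.ne_zero hint (by rw [hr, h, mul_zero])
  have hX : (X - 1 : F[X]) ≠ 0 := X_sub_C_ne_zero (1 : F)
  have hX1 : (X - 1 : F[X]).natDegree = 1 := natDegree_X_sub_C (1 : F)
  have hdr : r.natDegree + 1 = Module.finrank F V := by
    rw [← hd, hr, natDegree_mul hX hr0, hX1, add_comm]
  have hfr : f * aeval g r = 0 := by
    have := minpoly.aeval F g
    rwa [hr, map_mul, map_sub, aeval_X, map_one] at this
  have hrne : aeval g r ≠ 0 := fun h => by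
    have := natDegree_le_of_dvd (minpoly.dvd F g h) hr0
    omega
  have hker : LinearMap.ker f ≠ ⊥ := fun hk => hrne (LinearMap.ext fun v =>
    LinearMap.ker_eq_bot.1 hk (by
      rw [← Module.End.mul_apply, hfr]; simp))
  have hsum := LinearMap.finrank_range_add_finrank_ker f
  have hpos : 1 ≤ Module.finrank F (LinearMap.ker f) := Submodule.one_le_finrank_iff.2 hker
  -- restriction to the moved space
  have hW : ∀ x ∈ LinearMap.range f, g x ∈ LinearMap.range f := by
    rintro _ ⟨y, rfl⟩
    exact ⟨g y, by simp [hf, map_sub]⟩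
  set h : Module.End F (LinearMap.range f) := g.restrict hW with hh
  have hres : ∀ (P : F[X]) (w : LinearMap.range f), aeval g P (w : V) = ((aeval h P w : LinearMap.range f) : V) := by
    intro P
    induction P using Polynomial.induction_on with
    | C a => intro w; simp [Module.algebraMap_end_apply]
    | add a b ha hb => intro w; simp [ha, hb]
    | monomial n a ih =>
      intro w
      have e := ih (h w)
      rw [show ((h w : LinearMap.range f) : V) = g (w : V) from rfl] at e
      simp only [map_mul, map_pow, aeval_X, aeval_C, pow_succ, Module.End.mul_apply] at e ⊢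
      exact e
  have hzero : aeval g (h.charpoly * (X - 1)) = 0 := LinearMap.ext fun v => by
    rw [map_mul, Module.End.mul_apply, map_sub, aeval_X, map_one]
    change aeval g h.charpoly ((⟨f v, v, rfl⟩ : LinearMap.range f) : V) = _
    rw [hres, LinearMap.aeval_self_charpoly]
    simp
  have hle := natDegree_le_of_dvd (minpoly.dvd F g hzero) (mul_ne_zero h.charpoly_monic.ne_zero hX)
  rw [hd, natDegree_mul h.charpoly_monic.ne_zero hX, hX1, LinearMap.charpoly_natDegree] at hle
  omega

variable [Fintype F] [CharP F 2]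

/-- The polynomial form of the bound. -/
theorem bound_poly (B : V →ₗ[F] V →ₗ[F] F) (hB : ∀ w, (∀ u, B u w = 0) → w = 0) (g : Module.End F V)
    (hg : ∀ u v, B (g u) (g v) = B u v) (hdim : Module.finrank F V ≤ 8) (c : ℕ)
    (hc : c = 0 ∨ (c = 1 ∧ Even (Module.finrank F (LinearMap.range (g - 1))))) :
    ∃ i : Fin 13, minpoly F g * (X - 1) ^ c ∣ (X ^ oddPart (Fintype.card F) i - 1) ^ (2 ^ expo i) := by
  classical
  haveI : Fact (Nat.Prime 2) := ⟨Nat.prime_two⟩
  obtain ⟨hc0, cc, hcc, hrev⟩ := OrderBound.minpoly_data B hB g hg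
  have hint : IsIntegral F g := IsIntegral.of_finite F g
  set μ := minpoly F g with hμdef
  have hμm : μ.Monic := minpoly.monic hint
  have hμ0 : μ ≠ 0 := hμm.ne_zero
  have hdeg : μ.natDegree ≤ Module.finrank F V := by
    rw [← LinearMap.charpoly_natDegree g]
    exact natDegree_le_of_dvd (LinearMap.minpoly_dvd_charpoly g) g.charpoly_monic.ne_zero
  have hPQ : (X + 1 : F[X]) = X - 1 := by rw [CharTwo.sub_eq_add]
  set S := (normalizedFactors μ).toFinset with hS
  set e : F[X] → ℕ := fun f => (normalizedFactors μ).count f with he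
  have hSi : ∀ f ∈ S, Irreducible f := fun f hf => irreducible_of_normalized_factor f (Multiset.mem_toFinset.mp hf)
  have hSm : ∀ f ∈ S, f.Monic := fun f hf => by
    rw [← normalize_normalized_factor f (Multiset.mem_toFinset.mp hf)]
    exact Polynomial.monic_normalize (hSi f hf).ne_zero
  have hSX : ∀ f ∈ S, ¬ f = X := fun f hf h =>
    hc0 (X_dvd_iff.mp (h ▸ dvd_of_mem_normalizedFactors (Multiset.mem_toFinset.mp hf)))
  have hμprod : μ = ∏ f ∈ S, f ^ e f := by
    have h1 : Associated (normalizedFactors μ).prod μ := prod_normalizedFactors hμ0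
    rw [Finset.prod_multiset_count] at h1
    exact (eq_of_monic_of_associated (monic_prod_of_monic _ _ fun f hf => (hSm f hf).pow _) hμm h1).symm
  have he1 : ∀ f ∈ S, 1 ≤ e f := fun f hf => Multiset.one_le_count_iff_mem.mpr (Multiset.mem_toFinset.mp hf)
  set e₁ := e (X - 1) with he₁
  set R := S.erase (X - 1) with hR
  have hRS : ∀ f ∈ R, f ∈ S ∧ ¬ (f = X - 1 ∨ f = X + 1) := fun f hf => by
    obtain ⟨hne, hfS⟩ := Finset.mem_erase.1 hf
    exact ⟨hfS, fun h => h.elim hne fun h => hne (h.trans hPQ)⟩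
  have hsplit : μ = (X - 1) ^ e₁ * ∏ f ∈ R, f ^ e f := by
    by_cases h : (X - 1 : F[X]) ∈ S
    · rw [hR, he₁, Finset.mul_prod_erase _ (fun f => f ^ e f) h, hμprod]
    · have h0 : e₁ = 0 := Multiset.count_eq_zero.2 fun h' => h (Multiset.mem_toFinset.2 h')
      rw [hR, Finset.erase_eq_of_notMem h, h0, pow_zero, one_mul, hμprod]
  have hXm : (X - 1 : F[X]).Monic := monic_X_sub_C (1 : F)
  have hX1 : (X - 1 : F[X]).natDegree = 1 := natDegree_X_sub_C (1 : F)
  set T := ∑ f ∈ R, f.natDegree with hT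
  set Z := ∑ f ∈ R, (e f - 1) * f.natDegree with hZ
  have hμdeg : μ.natDegree = e₁ + T + Z := by
    conv_lhs => rw [hsplit]
    rw [Monic.natDegree_mul (hXm.pow _) (monic_prod_of_monic _ _ fun f hf => (hSm f (hRS f hf).1).pow _),
      hXm.natDegree_pow, hX1, mul_one,
      natDegree_prod_of_monic _ _ fun f hf => (hSm f (hRS f hf).1).pow _, add_assoc, hT, hZ, ← Finset.sum_add_distrib]
    congr 1
    refine Finset.sum_congr rfl fun f hf => ?_
    rw [(hSm f (hRS f hf).1).natDegree_pow]
    obtain ⟨n, hn⟩ : ∃ n, e f = n + 1 := ⟨e f - 1, by have := he1 f (hRS f hf).1; omega⟩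
    rw [hn, Nat.add_sub_cancel]
    ring
  have hfacts := fun f (hf : f ∈ R) =>
    OrderBound.factor_facts (hSm f (hRS f hf).1) (hSi f (hRS f hf).1) (hSX f (hRS f hf).1) (hRS f hf).2
  have hpartner : ∀ f ∈ S, ∀ f' : F[X], f'.Monic → Irreducible f' → (∃ a : F, a ≠ 0 ∧ f.reverse = C a * f') →
      f' ∈ S ∧ e f ≤ e f' := by
    rintro f hf f' hm' hi' ⟨a, ha, hff⟩
    have h1 : f ^ e f ∣ μ := by rw [hμprod]; exact Finset.dvd_prod_of_mem _ hf
    have h2 : f' ^ e f ∣ μ := by
      obtain ⟨r, hr⟩ := h1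
      have h3 : f.reverse ^ e f ∣ μ.reverse :=
        ⟨r.reverse, by rw [hr, Polynomial.reverse_mul_of_domain, OrderBound.reverse_pow]⟩
      rw [hrev, hff, mul_pow] at h3
      exact (IsUnit.dvd_mul_left (isUnit_C.mpr hcc.isUnit)).mp (dvd_of_mul_left_dvd h3)
    have h4 := (dvd_iff_normalizedFactors_le_normalizedFactors (pow_ne_zero _ hi'.ne_zero) hμ0).mp h2
    rw [normalizedFactors_pow, normalizedFactors_irreducible hi', hm'.normalize_eq_self,
      Multiset.nsmul_singleton] at h4
    have h5 := Multiset.count_le_of_le f' h4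
    rw [Multiset.count_replicate_self] at h5
    exact ⟨Multiset.mem_toFinset.mpr (Multiset.one_le_count_iff_mem.mp ((he1 f hf).trans h5)), h5⟩
  -- self-dual and paired factors
  set Ss := R.filter fun f => f ∣ f.reverse with hSs
  set Sp := R.filter fun f => ¬ f ∣ f.reverse with hSp
  set A := Ss.image (fun f => f.natDegree / 2) with hA'
  set B' := Sp.image (fun f => f.natDegree) with hB'
  have hself : ∀ f ∈ Ss, ∃ d, 0 < d ∧ f.natDegree = 2 * d ∧ f ∣ X ^ (Fintype.card F ^ d + 1) - 1 := fun f hf => by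
    obtain ⟨hfR, hs⟩ := Finset.mem_filter.mp hf
    rcases (hfacts f hfR).2 with ⟨-, h⟩ | ⟨h, -⟩
    · exact h
    · exact absurd hs h
  have hpair : ∀ f ∈ Sp, ∃ f' ∈ Sp, f' ≠ f ∧ f'.natDegree = f.natDegree ∧ e f ≤ e f' := fun f hf => by
    obtain ⟨hfR, hs⟩ := Finset.mem_filter.mp hf
    rcases (hfacts f hfR).2 with ⟨h, -⟩ | ⟨-, f', hm', hi', hne, hd, hu', hs', hc'⟩
    · exact absurd h hs
    · obtain ⟨hmem, hle⟩ := hpartner f (hRS f hfR).1 f' hm' hi' hc'
      exact ⟨f', Finset.mem_filter.mpr ⟨Finset.mem_erase.2 ⟨fun h => hu' (Or.inl h), hmem⟩, hs'⟩, hne, hd, hle⟩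
  have hApos : ∀ d ∈ A, 0 < d := fun d hd => by
    obtain ⟨f, hf, rfl⟩ := Finset.mem_image.mp hd
    obtain ⟨d', h1, h2, -⟩ := hself f hf
    omega
  have hBpos : ∀ d ∈ B', 0 < d := fun d hd => by
    obtain ⟨f, hf, rfl⟩ := Finset.mem_image.mp hd
    exact (hSi f (hRS f (Finset.mem_filter.mp hf).1).1).natDegree_pos
  set σ := (∑ d ∈ A, d) + ∑ d ∈ B', d with hσ
  have hσT : 2 * σ ≤ T := by
    have h1 := OrderBound.sum_image_bound Ss (fun f => f.natDegree / 2) 1 (fun d hd => by
      obtain ⟨f, hf, hfd⟩ := Finset.mem_image.mp hd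
      exact Finset.card_pos.mpr ⟨f, Finset.mem_filter.mpr ⟨hf, hfd⟩⟩)
    have h1' : 2 * ∑ f ∈ Ss, f.natDegree / 2 = ∑ f ∈ Ss, f.natDegree := by
      rw [Finset.mul_sum]
      refine Finset.sum_congr rfl fun f hf => ?_
      obtain ⟨d, -, hd, -⟩ := hself f hf
      omega
    have h2 := OrderBound.sum_image_bound Sp (fun f => f.natDegree) 2 (fun d hd => by
      obtain ⟨f, hf, rfl⟩ := Finset.mem_image.mp hd
      obtain ⟨f', hf', hne, hd', -⟩ := hpair f hf
      exact Finset.one_lt_card.mpr ⟨f', Finset.mem_filter.mpr ⟨hf', hd'⟩, f, Finset.mem_filter.mpr ⟨hf, rfl⟩, hne⟩)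
    have h3 : ∑ f ∈ Ss, f.natDegree + ∑ f ∈ Sp, f.natDegree = T :=
      Finset.sum_filter_add_sum_filter_not R _ _
    rw [← hA'] at h1
    rw [← hB'] at h2
    omega
  have hbig : ∀ f ∈ R, 2 * (e f - 1) ≤ Z ∧ 1 ≤ σ := by
    intro f hf
    by_cases hs : f ∣ f.reverse
    · have hfs : f ∈ Ss := Finset.mem_filter.2 ⟨hf, hs⟩
      obtain ⟨d, hd0, hd, -⟩ := hself f hfs
      refine ⟨le_trans ?_ (Finset.single_le_sum (f := fun g : F[X] => (e g - 1) * g.natDegree)
        (fun _ _ => Nat.zero_le _) hf), ?_⟩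
      · rw [mul_comm]
        exact Nat.mul_le_mul_left _ (by omega)
      · have := Finset.single_le_sum (f := fun d : ℕ => d) (fun _ _ => Nat.zero_le _)
          (Finset.mem_image_of_mem (fun g : F[X] => g.natDegree / 2) hfs)
        rw [← hA'] at this
        omega
    · have hfs : f ∈ Sp := Finset.mem_filter.2 ⟨hf, hs⟩
      obtain ⟨f', hf', hne, hd', hee⟩ := hpair f hfs
      have hfR' := (Finset.mem_filter.1 hf').1
      have hpos : 1 ≤ f.natDegree := (hSi f (hRS f hf).1).natDegree_pos
      refine ⟨?_, ?_⟩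
      · have h2 := Finset.sum_le_sum_of_subset (f := fun g : F[X] => (e g - 1) * g.natDegree)
          (show ({f, f'} : Finset F[X]) ⊆ R by
            intro x hx
            simp only [Finset.mem_insert, Finset.mem_singleton] at hx
            rcases hx with rfl | rfl
            exacts [hf, hfR'])
        rw [Finset.sum_pair (Ne.symm hne), hd'] at h2
        have h3 : e f - 1 ≤ (e f - 1) * f.natDegree := Nat.le_mul_of_pos_right _ hpos
        have h4 : e f - 1 ≤ (e f' - 1) * f.natDegree :=
          le_trans (by omega) (Nat.le_mul_of_pos_right _ hpos)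
        omega
      · have := Finset.single_le_sum (f := fun d : ℕ => d) (fun _ _ => Nat.zero_le _)
          (Finset.mem_image_of_mem (fun g : F[X] => g.natDegree) hfs)
        rw [← hB'] at this
        omega
  -- the exponent
  set E := max (max (e₁ + c) (R.sup e)) 1 with hE
  have hrank : c = 1 → 1 ≤ e₁ → μ.natDegree ≤ 7 := by
    intro hc1 he₁1
    by_contra h8
    obtain ⟨-, hev⟩ := hc.resolve_left (by omega)
    have hfin : μ.natDegree = Module.finrank F V := by omega
    have := rank_of_cyclic g (by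
      rw [← hμdef, hsplit]
      exact Dvd.dvd.mul_right (dvd_pow_self _ (by omega)) _) hfin
    rw [Nat.even_iff] at hev
    omega
  have hsup : R.sup e = 0 ∨ ∃ f ∈ R, R.sup e = e f := by
    rcases R.eq_empty_or_nonempty with h | h
    · exact Or.inl (by rw [h, Finset.sup_empty]; rfl)
    · exact Or.inr (Finset.exists_mem_eq_sup R h e)
  have hc1 : c ≤ 1 := by omega
  obtain ⟨k, hk3, hEk, hσk⟩ : ∃ k, k ≤ 3 ∧ E ≤ 2 ^ k ∧ σ + k ≤ 4 := by
    refine ⟨if E ≤ 1 then 0 else if E ≤ 2 then 1 else if E ≤ 4 then 2 else 3, by split_ifs <;> omega, ?_, ?_⟩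
    · split_ifs <;> norm_num <;>
        rcases hsup with h | ⟨f, hf, h⟩ <;>
        first
          | omega
          | (have := hbig f hf; omega)
    · split_ifs <;>
        rcases hsup with h | ⟨f, hf, h⟩ <;>
        first
          | omega
          | (rcases Nat.lt_or_ge c 1 with hc' | hc' <;> rcases Nat.lt_or_ge e₁ 1 with he' | he' <;>
              first
                | omega
                | (have := hrank (by omega) he'; omega))
          | (have := hbig f hf
             rcases Nat.lt_or_ge c 1 with hc' | hc' <;> rcases Nat.lt_or_ge e₁ 1 with he' | he' <;>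
              first
                | omega
                | (have := hrank (by omega) he'; omega))
  obtain ⟨i, hki, hAi, hBi⟩ := cover k hk3 A B' hApos hBpos hσk
  refine ⟨i, ?_⟩
  set L := oddPart (Fintype.card F) i with hL
  have hE2 : E ≤ 2 ^ expo i := hEk.trans (Nat.pow_le_pow_right (by norm_num) hki)
  have hfdvd : ∀ f ∈ R, f ∣ X ^ L - 1 := by
    intro f hf
    by_cases hs : f ∣ f.reverse
    · have hfs : f ∈ Ss := Finset.mem_filter.2 ⟨hf, hs⟩
      obtain ⟨d, -, hd, hdv⟩ := hself f hfs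
      refine hdv.trans (OrderBound.X_pow_sub_one_dvd (covA_dvd _ _ (hAi ?_)))
      exact Finset.mem_image.2 ⟨f, hfs, by omega⟩
    · exact (hfacts f hf).1.trans (OrderBound.X_pow_sub_one_dvd (covB_dvd _ _ (hBi
        (Finset.mem_image.2 ⟨f, Finset.mem_filter.2 ⟨hf, hs⟩, rfl⟩))))
  have hcop : ∀ f ∈ R, IsCoprime (X - 1) f := fun f hf =>
    (irreducible_X_sub_C (1 : F)).coprime_iff_not_dvd.2 fun h => (hRS f hf).2 (Or.inl
      (eq_of_monic_of_associated (hSm f (hRS f hf).1) hXm
        ((irreducible_X_sub_C (1 : F)).associated_of_dvd (hSi f (hRS f hf).1) h).symm))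
  rw [hsplit, mul_right_comm, ← pow_add]
  refine IsCoprime.mul_dvd ?_ ?_ ?_
  · exact IsCoprime.prod_right fun f hf => ((hcop f hf).pow)
  · exact (pow_dvd_pow _ (by omega)).trans (pow_dvd_pow_of_dvd (sub_one_dvd_pow_sub_one X L) _)
  · refine Finset.prod_dvd_of_coprime (fun f hf f' hf' hne => ?_) fun f hf => ?_
    · refine IsCoprime.pow ((hSi f (hRS f hf).1).coprime_iff_not_dvd.2 fun h => hne ?_)
      exact eq_of_monic_of_associated (hSm f (hRS f hf).1) (hSm f' (hRS f' hf').1)
        ((hSi f (hRS f hf).1).associated_of_dvd (hSi f' (hRS f' hf').1) h)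
    · exact (pow_dvd_pow _ ((Finset.le_sup (f := e) hf).trans (by omega))).trans
        (pow_dvd_pow_of_dvd (hfdvd f hf) _)

/-- An isometry is killed by one of the numbers. -/
theorem bound_pow (B : V →ₗ[F] V →ₗ[F] F) (hB : ∀ w, (∀ u, B u w = 0) → w = 0) (g : Module.End F V)
    (hg : ∀ u v, B (g u) (g v) = B u v) (hdim : Module.finrank F V ≤ 8) :
    ∃ i : Fin 13, g ^ maxOrd (Fintype.card F) i = 1 := by
  haveI : Fact (Nat.Prime 2) := ⟨Nat.prime_two⟩
  obtain ⟨i, hi⟩ := bound_poly B hB g hg hdim 0 (Or.inl rfl)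
  refine ⟨i, sub_eq_zero.1 ?_⟩
  rw [pow_zero, mul_one, sub_pow_char_pow, one_pow, ← pow_mul, mul_comm, ← maxOrd_eq] at hi
  obtain ⟨r, hr⟩ := hi
  have := congrArg (aeval g) hr
  rwa [map_sub, map_pow, aeval_X, map_one, map_mul, minpoly.aeval, zero_mul] at this

/-- If the moved space is even-dimensional, the norm vanishes too. -/
theorem bound_sum (B : V →ₗ[F] V →ₗ[F] F) (hB : ∀ w, (∀ u, B u w = 0) → w = 0) (g : Module.End F V)
    (hg : ∀ u v, B (g u) (g v) = B u v) (hdim : Module.finrank F V ≤ 8)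
    (hev : Even (Module.finrank F (LinearMap.range (g - 1)))) :
    ∃ i : Fin 13, g ^ maxOrd (Fintype.card F) i = 1 ∧
      ∑ j ∈ Finset.range (maxOrd (Fintype.card F) i), g ^ j = 0 := by
  haveI : Fact (Nat.Prime 2) := ⟨Nat.prime_two⟩
  obtain ⟨i, hi⟩ := bound_poly B hB g hg hdim 1 (Or.inr ⟨rfl, hev⟩)
  rw [pow_one, sub_pow_char_pow, one_pow, ← pow_mul, mul_comm _ (2 ^ expo i), ← maxOrd_eq, ← geom_sum_mul] at hi
  obtain ⟨r, hr⟩ := (mul_dvd_mul_iff_right (X_sub_C_ne_zero (1 : F))).1 hi
  have h0 : ∑ j ∈ Finset.range (maxOrd (Fintype.card F) i), g ^ j = 0 := by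
    have := congrArg (aeval g) hr
    rwa [map_mul, minpoly.aeval, zero_mul, map_sum, Finset.sum_congr rfl fun j _ => by rw [map_pow, aeval_X]] at this
  refine ⟨i, sub_eq_zero.1 ?_, h0⟩
  rw [← geom_sum_mul, h0, zero_mul]

end Cfsg.Agent.Lie.SpEight
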