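import Cfsg.Agent.Lib.Classical.OrthReflect
import Cfsg.Agent.Lib.Lie.SpEight.Pieces

/-!
Unipotent isometries in characteristic two, obtained by twice extending a reflection by a hyperbolic pair: they
have orders four and eight, and the affine extension of the first has order eight.
-/

set_option autoImplicit false
set_option linter.unusedSectionVars false

namespace Cfsg.Agent.Lie.SpEight

open QuadraticMap Cfsg.Agent.Classical

variable {F : Type*} [Field F] [CharP F 2] {V : Type*} [AddCommGroup V] [Module F V] [FiniteDimensional F V]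

omit [FiniteDimensional F V] in
theorem add_self_zero (F : Type*) [Field F] [CharP F 2] [Module F V] (x : V) : x + x = 0 := by
  rw [← two_smul F, CharTwo.two_eq_zero, zero_smul]

/-- A hyperbolic pair added to a quadratic space. -/
noncomputable def extForm (Q : QuadraticForm F V) : QuadraticForm F ((F × F) × V) :=
  linMulLin ((LinearMap.fst F F F).comp (LinearMap.fst F (F × F) V))
      ((LinearMap.snd F F F).comp (LinearMap.fst F (F × F) V)) +
    QuadraticMap.comp Q (LinearMap.snd F (F × F) V)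

theorem extForm_apply (Q : QuadraticForm F V) (a c : F) (x : V) : extForm Q ((a, c), x) = a * c + Q x := rfl

theorem coe_extForm (Q : QuadraticForm F V) :
    ⇑(extForm Q) = sumQ (fun p : F × F => p.1 * p.2) ⇑Q := funext fun _ => rfl

theorem polar_extForm (Q : QuadraticForm F V) (a c a' c' : F) (x x' : V) :
    polar (extForm Q) ((a, c), x) ((a', c'), x') = a * c' + c * a' + polar Q x x' := by
  simp only [polar, Prod.mk_add_mk, extForm_apply]
  ring

/-- The linear map of the extension. -/
def extMap (Q : QuadraticForm F V) (h : V ≃ₗ[F] V) (w : V) : ((F × F) × V) →ₗ[F] ((F × F) × V) where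
  toFun p := ((p.1.1 + polar Q (h p.2) w + p.1.2 * Q w, p.1.2), h p.2 + p.1.2 • w)
  map_add' p p' := by
    refine Prod.ext (Prod.ext ?_ rfl) ?_
    · simp only [Prod.fst_add, Prod.snd_add, map_add, polar_add_left]
      ring
    · simp only [Prod.fst_add, Prod.snd_add, map_add, add_smul]
      abel
  map_smul' s p := by
    refine Prod.ext (Prod.ext ?_ rfl) ?_
    · simp only [Prod.smul_fst, Prod.smul_snd, map_smul, polar_smul_left, smul_eq_mul, RingHom.id_apply]
      ring
    · simp only [Prod.smul_fst, Prod.smul_snd, map_smul, RingHom.id_apply, smul_add, smul_smul, smul_eq_mul]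

theorem extMap_injective (Q : QuadraticForm F V) (h : V ≃ₗ[F] V) (w : V) :
    Function.Injective (extMap Q h w) := by
  rintro ⟨⟨a, c⟩, x⟩ ⟨⟨a', c'⟩, x'⟩ e
  simp only [extMap, LinearMap.coe_mk, AddHom.coe_mk, Prod.mk.injEq] at e
  obtain ⟨⟨e1, rfl⟩, e2⟩ := e
  obtain rfl : x = x' := h.injective (add_right_cancel e2)
  simpa using e1

/-- The extension of `h` by the vector `w`. -/
noncomputable def ext1 (Q : QuadraticForm F V) (h : V ≃ₗ[F] V) (w : V) : ((F × F) × V) ≃ₗ[F] ((F × F) × V) :=
  LinearEquiv.ofInjectiveEndo (extMap Q h w) (extMap_injective Q h w)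

theorem ext1_apply (Q : QuadraticForm F V) (h : V ≃ₗ[F] V) (w : V) (a c : F) (x : V) :
    ext1 Q h w ((a, c), x) = ((a + polar Q (h x) w + c * Q w, c), h x + c • w) := rfl

variable {Q : QuadraticForm F V} {h : V ≃ₗ[F] V} (hh : h ∈ isoF F ⇑Q) (w : V)

include hh

theorem ext1_mem : ext1 Q h w ∈ isoF F ⇑(extForm Q) := by
  rintro ⟨⟨a, c⟩, x⟩
  rw [ext1_apply, extForm_apply, extForm_apply, QuadraticMap.map_add Q, QuadraticMap.map_smul, polar_smul_right,
    smul_eq_mul, smul_eq_mul, hh x]
  linear_combination CharTwo.two_eq_zero (R := F) * (polar Q (h x) w * c + c * c * Q w)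

theorem polar_iso' (x y : V) : polar Q (h x) (h y) = polar Q x y := by
  simp only [polar, ← map_add, hh _]

omit hh in
/-- The shape of the powers of an extension. -/
theorem ext1_pow (n : ℕ) : ∃ (φ : (F × V) →ₗ[F] F) (S : V), ∀ a c x,
    (ext1 Q h w ^ n) ((a, c), x) = ((a + φ (c, x), c), (h ^ n) x + c • S) := by
  induction n with
  | zero => exact ⟨0, 0, fun a c x => by simp⟩
  | succ n ih =>
    obtain ⟨φ, S, hS⟩ := ih
    refine ⟨φ + (LinearMap.fst F F V).smulRight (Q w) +
      (Q.polarBilin.flip w).comp (h.toLinearMap.comp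
        (((h ^ n).toLinearMap.comp (LinearMap.snd F F V)) + (LinearMap.fst F F V).smulRight S)), h S + w,
      fun a c x => ?_⟩
    rw [pow_succ', LinearEquiv.mul_apply, hS, ext1_apply]
    refine Prod.ext (Prod.ext ?_ rfl) ?_
    · simp [QuadraticMap.polarBilin_apply_apply]
      ring
    · rw [pow_succ', LinearEquiv.mul_apply, map_add, map_smul, smul_add]
      abel

omit hh in
/-- An extension of an element of exponent `n` has exponent dividing `4 n`. -/
theorem ext1_pow_eq_one {n : ℕ} (hn : h ^ n = 1) : ext1 Q h w ^ (4 * n) = 1 := by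
  obtain ⟨φ, S, hS⟩ := ext1_pow (Q := Q) (h := h) w n
  obtain ⟨ψ, S', hS'⟩ := ext1_pow (Q := Q) (h := h) w (2 * n)
  have h2 : (2 : F) = 0 := CharTwo.two_eq_zero
  have hS0 : S' = 0 := by
    have e1 := hS' 0 1 0
    rw [two_mul, pow_add, LinearEquiv.mul_apply, hS, hS, hn] at e1
    simpa [add_self_zero F, eq_comm] using congrArg Prod.snd e1
  refine LinearEquiv.ext fun ⟨⟨a, c⟩, x⟩ => ?_
  rw [show 4 * n = 2 * n + 2 * n by ring, pow_add, LinearEquiv.mul_apply, hS', hS', hS0,
    show h ^ (2 * n) = 1 by rw [mul_comm, pow_mul, hn, one_pow]]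
  simp only [LinearEquiv.coe_one, id_eq, smul_zero, add_zero]
  rw [add_assoc, CharTwo.add_self_eq_zero, add_zero]

omit hh

variable {z : V}

/-- The first extension of a reflection. -/
noncomputable def four (Q : QuadraticForm F V) (z w : V) : ((F × F) × V) ≃ₗ[F] ((F × F) × V) :=
  ext1 Q (ORefl.refl Q z) w

theorem four_mem (z w : V) : four Q z w ∈ isoF F ⇑(extForm Q) := ext1_mem (ORefl.refl_mem z) w

theorem four_sq (hz : Q z ≠ 0) (w : V) (a c : F) (x : V) :
    four Q z w (four Q z w ((a, c), x)) = ((a + polar Q x (ORefl.refl Q z w + w) +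
      c * polar Q (ORefl.refl Q z w) w, c), x + c • (ORefl.refl Q z w + w)) := by
  have hrr : ∀ y, ORefl.refl Q z (ORefl.refl Q z y) = y := fun y => by
    rw [← LinearEquiv.mul_apply, ORefl.refl_mul_self]; rfl
  have hmem : ORefl.refl Q z ∈ isoF F ⇑Q := ORefl.refl_mem z
  have hsym : polar Q (ORefl.refl Q z x) w = polar Q x (ORefl.refl Q z w) := by
    conv_rhs => rw [← polar_iso' hmem, hrr]
  rw [four, ext1_apply, ext1_apply, map_add, map_smul, hrr]
  refine Prod.ext (Prod.ext ?_ rfl) ?_
  · simp only [polar_add_left, polar_add_right, polar_smul_left, smul_eq_mul, hsym]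
    linear_combination (c * Q w) * CharTwo.two_eq_zero (R := F)
  · simp only [smul_add]
    abel

theorem refl_fix_sum (hz : Q z ≠ 0) (w : V) :
    ORefl.refl Q z (ORefl.refl Q z w + w) = ORefl.refl Q z w + w := by
  rw [map_add, ← LinearEquiv.mul_apply, ORefl.refl_mul_self, LinearEquiv.coe_one, id, add_comm]

theorem polar_sum_self (w : V) : polar Q (ORefl.refl Q z w + w) (ORefl.refl Q z w + w) = 0 := by
  rw [QuadraticMap.polar_self, nsmul_eq_mul, Nat.cast_ofNat, CharTwo.two_eq_zero, zero_mul]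

theorem four_pow (hz : Q z ≠ 0) (w : V) : four Q z w ^ 4 = 1 := by
  refine LinearEquiv.ext fun ⟨⟨a, c⟩, x⟩ => ?_
  rw [show (4 : ℕ) = 2 + 2 from rfl, pow_add, pow_two, LinearEquiv.mul_apply, LinearEquiv.mul_apply,
    LinearEquiv.mul_apply, four_sq hz, four_sq hz, LinearEquiv.coe_one, id]
  refine Prod.ext (Prod.ext ?_ rfl) ?_
  · rw [polar_add_left, polar_smul_left, polar_sum_self, smul_eq_mul, mul_zero, add_zero]
    linear_combination (polar Q x (ORefl.refl Q z w + w) + c * polar Q (ORefl.refl Q z w) w) *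
      CharTwo.two_eq_zero (R := F)
  · simp only [add_assoc, ← add_smul, CharTwo.add_self_eq_zero, zero_smul, add_zero]

theorem four_norm_ne (hz : Q z ≠ 0) {w : V} (hzw : polar Q z w ≠ 0) :
    ∑ i ∈ Finset.range 4, (four Q z w ^ i) ((0, 1), (0 : V)) ≠ 0 := by
  set h := four Q z w with hh
  set e : (F × F) × V := ((0, 1), 0) with he
  set u := e + h (h e) with hu
  have hsum : ∑ i ∈ Finset.range 4, (h ^ i) e = u + h u := by
    rw [hu, map_add]
    simp only [Finset.sum_range_succ, Finset.sum_range_zero, pow_succ, pow_zero, one_mul, LinearEquiv.mul_apply,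
      LinearEquiv.coe_one, id_eq]
    abel
  rw [hsum]
  set z' := ORefl.refl Q z w + w with hz'
  have hu' : u = ((polar Q (ORefl.refl Q z w) w, 0), z') := by
    rw [hu, hh, he, four_sq hz]
    simp [CharTwo.add_self_eq_zero, hz']
  rw [hu', hh, four, ext1_apply, refl_fix_sum hz]
  intro h0
  have h1 := congrArg (fun p : (F × F) × V => p.1.1) h0
  simp only [Prod.fst_add, zero_mul, add_zero, Prod.fst_zero] at h1
  rw [← add_assoc, CharTwo.add_self_eq_zero, zero_add, ORefl.refl_apply, sub_eq_add_neg, add_right_comm,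
    ← neg_smul, add_self_zero F, zero_add, polar_smul_left, smul_eq_mul] at h1
  rcases mul_eq_zero.1 h1 with h2 | h2
  · rcases mul_eq_zero.1 (neg_eq_zero.1 h2) with h3 | h3
    · exact hz (inv_eq_zero.1 h3)
    · exact hzw h3
  · exact hzw h2

theorem orderOf_aff_four (hz : Q z ≠ 0) {w : V} (hzw : polar Q z w ≠ 0) :
    8 ∣ orderOf (aff (four Q z w) ((0, 1), (0 : V))) := by
  set A := aff (four Q z w) ((0, 1), (0 : V)) with hA
  have h4 : ¬ A ^ 4 = 1 := fun h => by
    rw [hA, aff_pow] at h
    exact four_norm_ne hz hzw (aff_eq_one h).2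
  have h8 : A ^ 8 = 1 := by
    rw [hA, aff_pow, show (8 : ℕ) = 4 + 4 from rfl, Finset.sum_range_add, pow_add, four_pow hz, one_mul]
    simp only [pow_add, four_pow hz, one_mul]
    rw [← two_smul F, CharTwo.two_eq_zero, zero_smul, aff_one]
  haveI : Fact (Nat.Prime 2) := ⟨Nat.prime_two⟩
  rw [orderOf_eq_prime_pow (p := 2) (n := 2) h4 h8]
  norm_num

theorem orderOf_four (hz : Q z ≠ 0) {w : V} (hzw : polar Q z w ≠ 0) : 4 ∣ orderOf (four Q z w) := by
  haveI : Fact (Nat.Prime 2) := ⟨Nat.prime_two⟩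
  rw [orderOf_eq_prime_pow (p := 2) (n := 1) ?_ (four_pow hz w)]
  · norm_num
  intro h
  refine four_norm_ne hz hzw ?_
  rw [pow_one] at h
  rw [show (4 : ℕ) = 2 + 2 from rfl, Finset.sum_range_add]
  simp only [pow_add, h, one_mul]
  rw [← two_smul F, CharTwo.two_eq_zero, zero_smul]

/-- The second extension. -/
noncomputable def eight (Q : QuadraticForm F V) (z w : V) :
    ((F × F) × ((F × F) × V)) ≃ₗ[F] ((F × F) × ((F × F) × V)) :=
  ext1 (extForm Q) (four Q z w) ((0, 1), 0)

theorem eight_mem (z w : V) : eight Q z w ∈ isoF F ⇑(extForm (extForm Q)) := ext1_mem (four_mem z w) _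

theorem orderOf_eight (hz : Q z ≠ 0) {w : V} (hzw : polar Q z w ≠ 0) : 8 ∣ orderOf (eight Q z w) := by
  haveI : Fact (Nat.Prime 2) := ⟨Nat.prime_two⟩
  set g := eight Q z w with hg
  have h16 : g ^ 16 = 1 := by
    rw [hg, eight, show (16 : ℕ) = 4 * 4 from rfl]
    exact ext1_pow_eq_one _ (four_pow hz w)
  obtain ⟨k, hk, hkd⟩ := (Nat.dvd_prime_pow Nat.prime_two).1 (orderOf_dvd_of_pow_eq_one (n := 2 ^ 4) h16)
  rw [hkd]
  refine pow_dvd_pow 2 (show 3 ≤ k from Nat.le_of_not_lt fun hk' => four_norm_ne hz hzw ?_)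
  have h4 : g ^ 4 = 1 := by
    rw [← orderOf_dvd_iff_pow_eq_one, hkd]
    exact pow_dvd_pow 2 (show k ≤ 2 by omega)
  have h := congrArg Prod.snd (DFunLike.congr_fun h4 ((0, 1), 0))
  simp only [hg, eight, pow_succ, pow_zero, one_mul, LinearEquiv.mul_apply, ext1_apply, LinearEquiv.coe_one,
    id_eq, map_zero, zero_add, one_smul, map_add] at h
  simp only [Finset.sum_range_succ, Finset.sum_range_zero, pow_succ, pow_zero, one_mul, LinearEquiv.mul_apply,
    LinearEquiv.coe_one, id_eq]
  rw [zero_add]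
  abel_nf at h ⊢
  exact h

end Cfsg.Agent.Lie.SpEight
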