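import Cfsg.Agent.Lib.Lie.SpEight.Witness
import Cfsg.Agent.Lib.Lie.SpEight.Bound
import Cfsg.Agent.Lib.Lie.FibrePower
import Cfsg.Agent.Lib.Small.Orth.Words
import Cfsg.Agent.Lib.Small.SymplecticElems
import Cfsg.Agent.Lib.Classical.OrthCharTwoSp

/-!
The spectrum of `PSp₈(q)`, `q` even, is that of `GO⁻₈(q)` and that of the natural affine extension of the subgroup
of isometries with even-dimensional moved space; hence there are arbitrarily large groups with this spectrum.
-/

set_option autoImplicit false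
set_option linter.unusedSectionVars false
set_option linter.style.haveILetI false

namespace Cfsg.Agent.Lie.SpEight

open Matrix QuadraticMap Module Cfsg.Agent.Classical Cfsg.Agent.Small

/-- Orders dividing one of finitely many numbers. -/
theorem range_eq {G : Type*} [Group G] [Finite G] {κ : Type*} (N : κ → ℕ) (hup : ∀ x : G, ∃ i, x ^ N i = 1)
    (hlow : ∀ i, ∃ x : G, N i ∣ orderOf x) : Set.range (orderOf : G → ℕ) = {d | ∃ i, d ∣ N i} := by
  ext d
  constructor
  · rintro ⟨x, rfl⟩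
    obtain ⟨i, hi⟩ := hup x
    exact ⟨i, orderOf_dvd_of_pow_eq_one hi⟩
  · rintro ⟨i, hi⟩
    obtain ⟨x, hx⟩ := hlow i
    exact ⟨x ^ (orderOf x / d), orderOf_pow_orderOf_div (orderOf_pos x).ne' (hi.trans hx)⟩

variable {F : Type*} [Field F] [Fintype F] [CharP F 2] (a b : F)
  (hab : ∀ z₁ z₂ : F, z₁ ^ 2 + a * z₁ * z₂ + b * z₂ ^ 2 = 0 → z₁ = 0 ∧ z₂ = 0)

/-- The index type. -/
abbrev I8 : Type := (Fin 3 ⊕ Fin 3) ⊕ Fin 2

/-- The elliptic form of dimension eight. -/
noncomputable def qm : QuadraticForm F (I8 → F) := OOmega.formOf 3 (Equiv.refl _) (OCount.planeForm a b)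

theorem coe_qm : ⇑(qm a b) = Cfsg.quadFormMinus 3 F a b := OOmega.coe_minus 3 a b

include hab in
theorem qm_pnd : OCount.PND (qm a b) := OOmega.formOf_pnd (OOmega.pnd_plane hab)

include hab in
theorem sim_qm : Sim (ell 3 a b) ⇑(qm a b) := by
  rw [coe_qm]
  exact (sim_minus 3 a b).symm

/-- The symplectic coordinates. -/
noncomputable def spCoord : (Fin 4 ⊕ Fin 4 → F) →ₗ[F] (I8 → F) where
  toFun u := Sum.elim (Sum.elim (fun i => u (.inl i.castSucc)) fun i => u (.inr i.castSucc))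
    ![u (.inl (Fin.last 3)), a⁻¹ * u (.inr (Fin.last 3))]
  map_add' u v := by
    funext i
    rcases i with (i | i) | i
    · rfl
    · rfl
    · fin_cases i <;> simp [mul_add]
  map_smul' c u := by
    funext i
    rcases i with (i | i) | i
    · rfl
    · rfl
    · fin_cases i <;> simp [mul_left_comm]

include hab in
theorem spCoord_injective : Function.Injective (spCoord a) := fun u v h => by
  have ha := coeff_ne_zero a b hab
  funext i
  rcases i with i | i <;> induction i using Fin.lastCases with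
  | cast i => first | exact congrFun h (.inl (.inl i)) | exact congrFun h (.inl (.inr i))
  | last =>
    first
      | exact congrFun h (.inr 0)
      | exact mul_left_cancel₀ (inv_ne_zero ha) (congrFun h (.inr 1))

include hab in
theorem polar_spCoord (u v : Fin 4 ⊕ Fin 4 → F) :
    polar (qm a b) (spCoord a u) (spCoord a v) = OrthTwo.bil u v := by
  have ha := coeff_ne_zero a b hab
  rw [qm, OOmega.formOf_polar, OCount.stdQ_polar, OrthTwo.bil, Fin.sum_univ_castSucc (n := 3)]
  refine congrArg₂ (· + ·) (Finset.sum_congr rfl fun i _ => by simp [spCoord]) ?_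
  simp only [polar, OCount.planeForm_apply, Pi.add_apply, spCoord, LinearMap.coe_mk, AddHom.coe_mk,
    Equiv.refl_symm, Equiv.refl_apply, Sum.elim_inr, Matrix.cons_val_zero, Matrix.cons_val_one]
  field_simp
  linear_combination (a * u (.inl (Fin.last 3)) * v (.inl (Fin.last 3)) * a +
    b * u (.inr (Fin.last 3)) * v (.inr (Fin.last 3))) * CharTwo.two_eq_zero (R := F)

/-- The symplectic coordinates as an equivalence. -/
noncomputable def spEquiv : (Fin 4 ⊕ Fin 4 → F) ≃ₗ[F] (I8 → F) :=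
  LinearMap.linearEquivOfInjective (spCoord a) (spCoord_injective a b hab) (by simp)

/-- The matrix of an isometry in the symplectic coordinates. -/
noncomputable def spMat : ↥(ORefl.Iso (qm a b)) →* Matrix (Fin 4 ⊕ Fin 4) (Fin 4 ⊕ Fin 4) F where
  toFun g := LinearMap.toMatrix' (conjL (spEquiv a b hab).symm g.1).toLinearMap
  map_one' := by
    rw [Subgroup.coe_one, map_one]
    exact LinearMap.toMatrix'_id
  map_mul' g h := by
    rw [Subgroup.coe_mul, map_mul, ← LinearMap.toMatrix'_comp]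
    rfl

theorem spMat_mulVec (g : ↥(ORefl.Iso (qm a b))) (u : Fin 4 ⊕ Fin 4 → F) :
    spMat a b hab g *ᵥ u = conjL (spEquiv a b hab).symm g.1 u := by
  simp only [spMat, MonoidHom.coe_mk, OneHom.coe_mk, ← Matrix.toLin'_apply, Matrix.toLin'_toMatrix']
  rfl

theorem spMat_mem (g : ↥(ORefl.Iso (qm a b))) : spMat a b hab g ∈ Matrix.symplecticGroup (Fin 4) F := by
  rw [SymplecticGroup.mem_iff']
  set M := spMat a b hab g with hM
  have key : ∀ u v, (M *ᵥ u) ⬝ᵥ (Matrix.J (Fin 4) F *ᵥ (M *ᵥ v)) = u ⬝ᵥ (Matrix.J (Fin 4) F *ᵥ v) := by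
    intro u v
    rw [OrthTwo.J_apply, OrthTwo.J_apply, ← polar_spCoord a b hab, ← polar_spCoord a b hab, hM, spMat_mulVec,
      spMat_mulVec, conjL_apply, conjL_apply, LinearEquiv.symm_symm]
    have e : ∀ x, spCoord a ((spEquiv a b hab).symm x) = x := fun x => (spEquiv a b hab).apply_symm_apply x
    rw [e, e]
    exact ORefl.polar_iso g.2 _ _
  ext i j
  have := key (Pi.single i 1) (Pi.single j 1)
  rw [Matrix.mulVec_mulVec, Matrix.dotProduct_mulVec, Matrix.vecMul_mulVec, ← Matrix.mul_assoc,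
    ← Matrix.dotProduct_mulVec, Matrix.mulVec_single_one, Matrix.mulVec_single_one, single_one_dotProduct,
    single_one_dotProduct] at this
  exact this

/-- The isometries inside the symplectic group. -/
noncomputable def toSp : ↥(ORefl.Iso (qm a b)) →* Matrix.symplecticGroup (Fin 4) F :=
  (spMat a b hab).codRestrict _ (spMat_mem a b hab)

theorem toSp_injective : Function.Injective (toSp a b hab) := fun g h e => by
  refine Subtype.ext (conjL_injective (spEquiv a b hab).symm (LinearEquiv.ext fun u => ?_))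
  rw [← spMat_mulVec, ← spMat_mulVec]
  exact congrArg (fun x : Matrix.symplecticGroup (Fin 4) F => x.1 *ᵥ u) e

theorem sp_pow (g : Matrix.symplecticGroup (Fin 4) F) :
    ∃ i : Fin 13, g ^ maxOrd (Fintype.card F) i = 1 := by
  have hB : ∀ w, (∀ u, Matrix.toLinearMap₂' F (Matrix.J (Fin 4) F) u w = 0) → w = 0 := fun w hw => by
    refine Matrix.eq_zero_of_mulVec_eq_zero (Matrix.isUnit_det_J (Fin 4) F).ne_zero (funext fun i => ?_)
    have := hw (Pi.single i (1 : F))
    rwa [Matrix.toLinearMap₂'_apply', single_one_dotProduct] at this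
  obtain ⟨i, hi⟩ := bound_pow (Matrix.toLinearMap₂' F (Matrix.J (Fin 4) F)) hB (Matrix.toLinAlgEquiv' g.1)
    (fun u v => by
      rw [Matrix.toLinearMap₂'_apply', Matrix.toLinearMap₂'_apply', Matrix.toLinAlgEquiv'_apply,
        Matrix.toLinAlgEquiv'_apply, Matrix.mulVec_mulVec, Matrix.dotProduct_mulVec, Matrix.vecMul_mulVec,
        ← Matrix.mul_assoc, SymplecticGroup.mem_iff'.mp g.2, ← Matrix.dotProduct_mulVec])
    (by simp)
  refine ⟨i, Subtype.ext (Matrix.toLinAlgEquiv'.injective ?_)⟩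
  rw [SubmonoidClass.coe_pow, map_pow, hi, OneMemClass.coe_one, map_one]

theorem finite_iso : Finite ↥(ORefl.Iso (qm a b)) :=
  Finite.of_injective (fun g => (⇑g.1 : (I8 → F) → (I8 → F))) fun _ _ h =>
    Subtype.ext (DFunLike.coe_injective h)

include hab in
theorem iso_low (i : Fin 13) : ∃ g : ↥(ORefl.Iso (qm a b)), maxOrd (Fintype.card F) i ∣ orderOf g := by
  obtain ⟨g, hg, hd⟩ := (hasOrd_maxOrd a b hab i).sim (sim_qm a b hab)
  exact ⟨⟨g, hg⟩, by rwa [← Subgroup.orderOf_coe]⟩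

include hab in
theorem range_sp : Set.range (orderOf : Matrix.symplecticGroup (Fin 4) F → ℕ) =
    {d | ∃ i : Fin 13, d ∣ maxOrd (Fintype.card F) i} :=
  range_eq _ sp_pow fun i => by
    obtain ⟨g, hg⟩ := iso_low a b hab i
    exact ⟨toSp a b hab g, by rwa [orderOf_injective _ (toSp_injective a b hab)]⟩

theorem sp_center_eq_bot : Subgroup.center (Matrix.symplecticGroup (Fin 4) F) = ⊥ := by
  rw [Subgroup.eq_bot_iff_forall]
  intro g hg
  obtain ⟨c, hc, hgc⟩ := sp_center_smul 4 g hg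
  have hc1 : c = 1 := by
    have h : (c - 1) * (c - 1) = 0 := by linear_combination hc + (1 - c) * CharTwo.two_eq_zero (R := F)
    exact sub_eq_zero.1 (mul_self_eq_zero.1 h)
  exact Subtype.ext (by rw [hgc, hc1, one_smul]; rfl)

include hab in
theorem range_psp : Set.range (orderOf : Cfsg.PSp 4 F → ℕ) =
    {d | ∃ i : Fin 13, d ∣ maxOrd (Fintype.card F) i} := by
  rw [← range_sp a b hab]
  let e : Cfsg.PSp 4 F ≃* Matrix.symplecticGroup (Fin 4) F :=
    (QuotientGroup.quotientMulEquivOfEq sp_center_eq_bot).trans QuotientGroup.quotientBot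
  ext d
  constructor
  · rintro ⟨x, rfl⟩
    exact ⟨e x, MulEquiv.orderOf_eq e x⟩
  · rintro ⟨x, rfl⟩
    exact ⟨e.symm x, MulEquiv.orderOf_eq e.symm x⟩

include hab in
theorem range_go : Set.range (orderOf : ↥(Cfsg.isometryGroup F (Cfsg.quadFormMinus 3 F a b)) → ℕ) =
    {d | ∃ i : Fin 13, d ∣ maxOrd (Fintype.card F) i} := by
  rw [← coe_qm]
  haveI := finite_iso a b
  have h : Set.range (orderOf : ↥(ORefl.Iso (qm a b)) → ℕ) = {d | ∃ i : Fin 13, d ∣ maxOrd (Fintype.card F) i} := by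
    refine range_eq _ (fun g => ?_) (iso_low a b hab)
    obtain ⟨i, hi⟩ := sp_pow (toSp a b hab g)
    exact ⟨i, toSp_injective a b hab (by rw [map_pow, hi, map_one])⟩
  rw [← h]
  ext d
  constructor
  · rintro ⟨x, rfl⟩
    exact ⟨(ORefl.toMat (qm a b)).symm x, MulEquiv.orderOf_eq _ x⟩
  · rintro ⟨x, rfl⟩
    exact ⟨ORefl.toMat (qm a b) x, MulEquiv.orderOf_eq _ x⟩

/-! ### The affine group -/

/-- The moved space has even dimension. -/
def IsEvenMoved (g : ↥(ORefl.Iso (qm a b))) : Prop :=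
  Even (finrank F (LinearMap.range ((g.1 : (I8 → F) →ₗ[F] (I8 → F)) - 1)))

include hab in
theorem exists_word (g : ↥(ORefl.Iso (qm a b))) :
    ∃ vs : List (I8 → F), (∀ v ∈ vs, qm a b v ≠ 0) ∧ Orth.prodRf (qm a b) vs = g ∧
      (IsEvenMoved a b g ↔ Even vs.length) := by
  obtain ⟨vs, hvs, he⟩ := Orth.exists_list (qm_pnd a b hab) (Or.inr (by simp)) g
  refine ⟨vs, hvs, he, ?_⟩
  rw [IsEvenMoved, ← he]
  exact Orth.even_rank_iff (qm_pnd a b hab) vs hvs

include hab in
theorem even_mul (g h : ↥(ORefl.Iso (qm a b))) :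
    IsEvenMoved a b (g * h) ↔ (IsEvenMoved a b g ↔ IsEvenMoved a b h) := by
  obtain ⟨vs, hvs, hg, eg⟩ := exists_word a b hab g
  obtain ⟨ws, hws, hh, eh⟩ := exists_word a b hab h
  rw [eg, eh, ← hg, ← hh, ← Orth.prodRf_append, IsEvenMoved,
    Orth.even_rank_iff (qm_pnd a b hab) (vs ++ ws) (fun v hv => (List.mem_append.1 hv).elim (hvs v) (hws v)),
    List.length_append, Nat.even_add]

theorem even_one : IsEvenMoved a b 1 := by
  rw [IsEvenMoved, show (((1 : ↥(ORefl.Iso (qm a b))).1 : (I8 → F) →ₗ[F] (I8 → F)) - 1) = 0 from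
    LinearMap.ext fun x => sub_self x, LinearMap.range_zero, finrank_bot]
  exact Even.zero

include hab in
theorem even_inv {g : ↥(ORefl.Iso (qm a b))} (hg : IsEvenMoved a b g) : IsEvenMoved a b g⁻¹ := by
  have := (even_mul a b hab g g⁻¹).1 (by rw [mul_inv_cancel]; exact even_one a b)
  exact this.1 hg

include hab in
theorem even_of_odd {g : ↥(ORefl.Iso (qm a b))} (ho : Odd (orderOf g)) : IsEvenMoved a b g := by
  obtain ⟨k, hk⟩ := ho
  have e : g = g ^ (k + 1) * g ^ (k + 1) := by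
    rw [← pow_add, show k + 1 + (k + 1) = orderOf g + 1 by omega, pow_succ, pow_orderOf_eq_one, one_mul]
  rw [e]
  exact (even_mul a b hab _ _).2 Iff.rfl

/-- The affine maps with even linear part. -/
noncomputable def affGroup : Subgroup (Equiv.Perm (I8 → F)) where
  carrier := {f | ∃ g : ↥(ORefl.Iso (qm a b)), IsEvenMoved a b g ∧ ∃ v, f = aff g.1 v}
  one_mem' := ⟨1, even_one a b, 0, aff_one.symm⟩
  mul_mem' := by
    rintro _ _ ⟨g, hg, v, rfl⟩ ⟨h, hh, w, rfl⟩
    exact ⟨g * h, (even_mul a b hab g h).2 (iff_of_true hg hh), _, aff_mul _ _ _ _⟩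
  inv_mem' := by
    rintro _ ⟨g, hg, v, rfl⟩
    refine ⟨g⁻¹, even_inv a b hab hg, -((g⁻¹ : ↥(ORefl.Iso (qm a b))).1 v), inv_eq_of_mul_eq_one_right ?_⟩
    rw [aff_mul, map_neg, ← LinearEquiv.mul_apply, ← Subgroup.coe_mul, mul_inv_cancel, Subgroup.coe_one, LinearEquiv.coe_one, id, neg_add_cancel, aff_one]

/-- The translations. -/
noncomputable def translations : Subgroup ↥(affGroup a b hab) where
  carrier := {f | ∃ v, f.1 = aff (1 : (I8 → F) ≃ₗ[F] (I8 → F)) v}
  one_mem' := ⟨0, aff_one.symm⟩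
  mul_mem' := by
    rintro f f' ⟨v, hv⟩ ⟨w, hw⟩
    exact ⟨_, by rw [Subgroup.coe_mul, hv, hw, aff_mul, one_mul]⟩
  inv_mem' := by
    rintro f ⟨v, hv⟩
    refine ⟨-v, ?_⟩
    rw [Subgroup.coe_inv, hv]
    refine inv_eq_of_mul_eq_one_right ?_
    rw [aff_mul, one_mul, LinearEquiv.coe_one, id, neg_add_cancel, aff_one]

theorem translations_normal : (translations a b hab).Normal := by
  refine ⟨fun f hf A => ?_⟩
  obtain ⟨v, hv⟩ := hf
  obtain ⟨g, hg, w, hA⟩ := A.2
  refine ⟨g.1 v, ?_⟩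
  rw [Subgroup.coe_mul, Subgroup.coe_mul, Subgroup.coe_inv, hv, hA, mul_inv_eq_iff_eq_mul, aff_mul, aff_mul,
    one_mul, mul_one, LinearEquiv.coe_one, id, add_comm]

theorem translations_ne_bot : translations a b hab ≠ ⊥ := fun h => by
  obtain ⟨v, hv⟩ := exists_ne (0 : I8 → F)
  have : (⟨aff 1 v, 1, even_one a b, v, rfl⟩ : ↥(affGroup a b hab)) ∈ translations a b hab := ⟨v, rfl⟩
  rw [h, Subgroup.mem_bot] at this
  exact hv (aff_eq_one (congrArg Subtype.val this)).2

theorem translations_sq : ∀ x ∈ translations a b hab, x ^ 2 = 1 := by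
  rintro x ⟨v, hv⟩
  refine Subtype.ext ?_
  rw [SubgroupClass.coe_pow, hv, pow_two, aff_mul, one_mul, LinearEquiv.coe_one, id, add_self_zero F, aff_one]
  rfl

theorem aff_up (f : ↥(affGroup a b hab)) : ∃ i : Fin 13, f ^ maxOrd (Fintype.card F) i = 1 := by
  obtain ⟨_, g, hg, v, rfl⟩ := f
  obtain ⟨i, hi, hsum⟩ := bound_sum (qm a b).polarBilin
    (fun w hw => qm_pnd a b hab w fun u => by rw [polar_comm]; exact hw u)
    (g.1 : (I8 → F) →ₗ[F] (I8 → F)) (fun u w => ORefl.polar_iso g.2 u w) (by simp) hg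
  refine ⟨i, Subtype.ext ?_⟩
  rw [SubgroupClass.coe_pow, aff_pow, Subgroup.coe_one]
  have e : ∀ n : ℕ, ((g.1 ^ n : (I8 → F) ≃ₗ[F] (I8 → F)) : (I8 → F) →ₗ[F] (I8 → F)) =
      (g.1 : (I8 → F) →ₗ[F] (I8 → F)) ^ n := fun n =>
    map_pow LinearEquiv.automorphismGroup.toLinearMapMonoidHom g.1 n
  have h1 : g.1 ^ maxOrd (Fintype.card F) i = 1 := LinearEquiv.toLinearMap_injective ((e _).trans hi)
  have h2 : ∑ j ∈ Finset.range (maxOrd (Fintype.card F) i), (g.1 ^ j) v = 0 := by
    have := DFunLike.congr_fun hsum v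
    rw [LinearMap.sum_apply, LinearMap.zero_apply] at this
    rw [← this]
    exact Finset.sum_congr rfl fun j _ => by rw [← e]; rfl
  rw [h1, h2, aff_one]

include hab in
theorem exists_even_of_spare {V : Type*} [AddCommGroup V] [Module F V] {Q : V → F} (hQ0 : Q 0 = 0)
    {P : QuadraticForm F (F × F)} {z : F × F} (hz : P z ≠ 0) (s : Sim (sumQ Q ⇑P) ⇑(qm a b)) {r : ℕ}
    (h : HasAff F Q r) :
    ∃ g : ↥(ORefl.Iso (qm a b)), IsEvenMoved a b g ∧ ∃ v, r ∣ orderOf (aff g.1 v) := by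
  obtain ⟨g, hg, v, hr⟩ := h
  obtain ⟨L, hL⟩ := s
  set g₁ : ↥(ORefl.Iso (qm a b)) :=
    ⟨conjL L (pairHom (g, 1)), conjL_mem L hL (pairHom_mem hg (one_mem _))⟩ with hg₁
  by_cases he : IsEvenMoved a b g₁
  · refine ⟨g₁, he, L (v, 0), ?_⟩
    rw [hg₁, orderOf_aff_conj, orderOf_aff_pair]
    exact hr.trans (Nat.dvd_lcm_left _ _)
  · have hLz : qm a b (L (0, z)) ≠ 0 := by rw [hL, sumQ, hQ0, zero_add]; exact hz
    have hs : ¬ IsEvenMoved a b (Orth.prodRf (qm a b) [L (0, z)]) := by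
      rw [IsEvenMoved, Orth.even_rank_iff (qm_pnd a b hab) [L (0, z)] (by simpa using hLz)]
      simp
    refine ⟨Orth.prodRf (qm a b) [L (0, z)] * g₁, (even_mul a b hab _ _).2 (iff_of_false hs he), L (v, 0), ?_⟩
    have e : (Orth.prodRf (qm a b) [L (0, z)] * g₁).1 = conjL L (pairHom (g, ORefl.refl P z)) := by
      refine LinearEquiv.ext fun x => ?_
      obtain ⟨⟨p, p'⟩, rfl⟩ := L.surjective x
      rw [Orth.prodRf_cons, Orth.prodRf_nil, mul_one]
      change ORefl.refl (qm a b) (L (0, z)) (conjL L (pairHom (g, 1)) (L (p, p'))) =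
        conjL L (pairHom (g, ORefl.refl P z)) (L (p, p'))
      rw [conjL_apply, conjL_apply, L.symm_apply_apply, pairHom_apply, pairHom_apply, LinearEquiv.coe_one, id,
        ORefl.refl_apply, ORefl.refl_apply]
      simp only [polar, ← map_add, hL, sumQ, Prod.fst_add, Prod.snd_add, zero_add, hQ0]
      rw [← map_smul, ← map_sub]
      congr 1
      refine Prod.ext ?_ ?_
      · simp
      · simp only [Prod.snd_sub, Prod.smul_snd]
        congr 2
        ring
    rw [e, orderOf_aff_conj, orderOf_aff_pair]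
    exact hr.trans (Nat.dvd_lcm_left _ _)

include hab in
theorem aff_low (i : Fin 13) : ∃ f : ↥(affGroup a b hab), maxOrd (Fintype.card F) i ∣ orderOf f := by
  suffices h : ∃ g : ↥(ORefl.Iso (qm a b)), IsEvenMoved a b g ∧
      ∃ v, maxOrd (Fintype.card F) i ∣ orderOf (aff g.1 v) by
    obtain ⟨g, hg, v, hv⟩ := h
    exact ⟨⟨aff g.1 v, g, hg, v, rfl⟩, by rwa [← Subgroup.orderOf_coe]⟩
  rcases hasAff_maxOrd a b hab i with h | h | h
  · obtain ⟨g, hg, ho, hv⟩ := h.sim (sim_qm a b hab)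
    exact ⟨⟨g, hg⟩, even_of_odd a b hab (by rwa [← Subgroup.orderOf_coe]), hv⟩
  · obtain ⟨P, z, w, hz, -, sP⟩ := exists_plane_ell a b hab
    exact exists_even_of_spare a b hab (by simp [hyp]) hz
      ((((Sim.refl _).congr sP).trans (sim_hyp_ell 3 0 a b)).trans (sim_qm a b hab)) h
  · obtain ⟨P, z, w, hz, -, sP⟩ := exists_plane_hyp (F := F)
    exact exists_even_of_spare a b hab (by simp [ell, sumQ, hyp, nQ]) hz
      ((((Sim.refl _).congr sP).trans (sim_ell_hyp 2 1 a b)).trans (sim_qm a b hab)) h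

include hab in
/-- Arbitrarily large groups with the spectrum of `PSp₈(q)`. -/
theorem exists_large (M : ℕ) :
    ∃ (H : Type) (_ : Group H) (_ : Fintype H), M < Fintype.card H ∧
      Set.range (orderOf : H → ℕ) = Set.range (orderOf : Cfsg.PSp 4 F → ℕ) := by
  haveI := translations_normal a b hab
  rw [range_psp a b hab, ← range_eq _ (aff_up a b hab) (aff_low a b hab)]
  exact exists_large_isospectral (translations a b hab) (translations_ne_bot a b hab) Nat.prime_two
    (translations_sq a b hab) M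

end Cfsg.Agent.Lie.SpEight
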