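import Cfsg.Agent.Lib.Lie.SpEight.Models
import Cfsg.Agent.Lib.Lie.SpEight.Cover

/-!
Each of the thirteen numbers divides the order of an isometry of the elliptic space of dimension eight, and of an
affine isometry of it whose linear part has odd order or can be completed by a reflection in a spare plane.
-/

set_option autoImplicit false
set_option linter.unusedSectionVars false

namespace Cfsg.Agent.Lie.SpEight

variable {F : Type*} [Field F] [CharP F 2] [Fintype F] (a b : F)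
  (hab : ∀ z₁ z₂ : F, z₁ ^ 2 + a * z₁ * z₂ + b * z₂ ^ 2 = 0 → z₁ = 0 ∧ z₂ = 0)

theorem coprime_plus_minus {m : ℕ} (hm : Even m) (hm0 : 0 < m) : (m + 1).Coprime (m - 1) := by
  obtain ⟨k, rfl⟩ := hm
  rw [show k + k + 1 = 2 + (k + k - 1) by omega, Nat.coprime_add_self_left, Nat.coprime_comm]
  exact (show Odd (k + k - 1) from ⟨k - 1, by omega⟩).coprime_two_right

variable (F) in
/-- The coprimality facts used. -/
theorem coprimes :
    let q := Fintype.card F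
    (q ^ 3 - 1).Coprime (q + 1) ∧ (q ^ 3 + 1).Coprime (q - 1) ∧ (q ^ 2 + 1).Coprime (q ^ 2 - 1) ∧
      (q ^ 2 + 1).Coprime (q + 1) ∧ (q ^ 2 + 1).Coprime (q - 1) ∧ (q + 1).Coprime (q - 1) ∧
      Odd (q + 1) ∧ Odd (q - 1) ∧ Odd (q ^ 2 + 1) ∧ Odd (q ^ 2 - 1) ∧ Odd (q ^ 3 + 1) ∧ Odd (q ^ 3 - 1) := by
  intro q
  have he : Even q := Nat.even_iff.2 (FiniteField.even_card_of_char_two (ringChar.eq F 2))
  have hq : 0 < q := Fintype.card_pos
  have h3 := coprime_plus_minus (he.pow_of_ne_zero (by norm_num : 3 ≠ 0)) (pow_pos hq 3)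
  have h2 := coprime_plus_minus (he.pow_of_ne_zero (by norm_num : 2 ≠ 0)) (pow_pos hq 2)
  have h1 := coprime_plus_minus he hq
  refine ⟨(h3.coprime_dvd_left (add_one_dvd_cube q)).symm,
    h3.coprime_dvd_right (Nat.sub_one_dvd_pow_sub_one q 3), h2,
    h2.coprime_dvd_right (add_one_dvd_sq_sub q), h2.coprime_dvd_right (Nat.sub_one_dvd_pow_sub_one q 2), h1, ?_, ?_,
    odd_plus (by norm_num), odd_minus (by norm_num), odd_plus (by norm_num), odd_minus (by norm_num)⟩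
  · simpa using odd_plus (F := F) (d := 1) le_rfl
  · simpa using odd_minus (F := F) (d := 1) le_rfl

theorem two_mul_cop {r : ℕ} (hr : Odd r) (k : ℕ) : (2 ^ k).Coprime r :=
  (hr.coprime_two_left).pow_left k

include hab

/-- The numbers are orders of isometries. -/
theorem hasOrd_maxOrd (i : Fin 13) : HasOrd F (ell 3 a b) (maxOrd (Fintype.card F) i) := by
  classical
  set q := Fintype.card F with hq
  obtain ⟨c1, c2, c3, c4, c5, c6, o1, o1', o2, o2', o3, o3'⟩ := coprimes F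
  obtain ⟨H, zh, wh, hzh, hwh, sH⟩ := exists_plane_hyp (F := F)
  obtain ⟨N, zn, wn, hzn, hwn, sN⟩ := exists_plane_ell a b hab
  have p1 : HasOrd F (hyp F 1) (q - 1) := by simpa using hasOrd_plus (F := F) (d := 1) le_rfl
  have p2 : HasOrd F (hyp F 2) (q ^ 2 - 1) := hasOrd_plus (by norm_num)
  have p3 : HasOrd F (hyp F 3) (q ^ 3 - 1) := hasOrd_plus (by norm_num)
  have m1 : HasOrd F (ell 0 a b) (q + 1) := by simpa using hasOrd_minus a b hab (d := 1) le_rfl
  have m2 : HasOrd F (ell 1 a b) (q ^ 2 + 1) := hasOrd_minus a b hab (d := 2) (by norm_num)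
  have m3 : HasOrd F (ell 2 a b) (q ^ 3 + 1) := hasOrd_minus a b hab (d := 3) (by norm_num)
  have m4 : HasOrd F (ell 3 a b) (q ^ 4 + 1) := hasOrd_minus a b hab (d := 4) (by norm_num)
  have h2 : HasOrd F (hyp F 1) 2 := (hasOrd_two hzh hwh).sim sH
  have n2 : HasOrd F (ell 0 a b) 2 := (hasOrd_two hzn hwn).sim sN
  have h4 : HasOrd F (hyp F 2) 4 :=
    HasOrd.sim (r := 4) ⟨four H zh wh, four_mem zh wh, orderOf_four hzh hwh⟩ (sim_ext_hyp sH)
  have n4 : HasOrd F (ell 1 a b) 4 :=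
    HasOrd.sim (r := 4) ⟨four N zn wn, four_mem zn wn, orderOf_four hzn hwn⟩ (sim_ext_ell a b sN)
  have h8 : HasOrd F (hyp F 3) 8 :=
    HasOrd.sim (r := 8) ⟨eight H zh wh, eight_mem zh wh, orderOf_eight hzh hwh⟩ (sim_ext_hyp (sim_ext_hyp sH))
  have n8 : HasOrd F (ell 2 a b) 8 :=
    HasOrd.sim (r := 8) ⟨eight N zn wn, eight_mem zn wn, orderOf_eight hzn hwn⟩
      (sim_ext_ell a b (sim_ext_ell a b sN))
  have hsq : q ^ 4 - 1 = (q ^ 2 + 1) * (q ^ 2 - 1) := by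
    rw [← Nat.sq_sub_sq, ← pow_mul, one_pow]
  fin_cases i <;> simp only [maxOrd] <;> simp
  · exact m4
  · rw [hsq]; exact (m2.sum p2 c3).sim (sim_ell_hyp 1 2 a b)
  · exact (p3.sum m1 c1).sim (sim_hyp_ell 3 0 a b)
  · exact (m3.sum p1 c2).sim (sim_ell_hyp 2 1 a b)
  · rw [mul_comm]
    exact (m3.sum h2 (two_mul_cop o3 1).symm).sim (sim_ell_hyp 2 1 a b)
  · rw [mul_comm]
    exact (p3.sum n2 (two_mul_cop o3' 1).symm).sim (sim_hyp_ell 3 0 a b)
  · rw [mul_comm 2, mul_assoc]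
    refine (m2.sum ((m1.sum n2 (two_mul_cop o1 1).symm).sim (sim_ell_ell a b hab 0 0)) ?_).sim (sim_ell_hyp 1 2 a b)
    exact Nat.Coprime.mul_right c4 (two_mul_cop o2 1).symm
  · rw [mul_comm 2, mul_assoc]
    refine (m2.sum ((p1.sum h2 (two_mul_cop o1' 1).symm).sim (sim_hyp_add 1 1)) ?_).sim (sim_ell_hyp 1 2 a b)
    exact Nat.Coprime.mul_right c5 (two_mul_cop o2 1).symm
  · rw [mul_comm]
    refine (p2.sum ?_ (two_mul_cop o2' 1).symm).sim (sim_hyp_ell 2 1 a b)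
    simpa using (h2.sum (HasOrd.one (ell 0 a b)) (Nat.coprime_one_right _)).sim (sim_hyp_ell 1 0 a b)
  · rw [mul_comm]
    exact (m2.sum h4 (two_mul_cop o2 2).symm).sim (sim_ell_hyp 1 2 a b)
  · rw [mul_comm]
    exact (p2.sum n4 (two_mul_cop o2' 2).symm).sim (sim_hyp_ell 2 1 a b)
  · rw [mul_comm]
    exact (m1.sum h8 (two_mul_cop o1 3).symm).sim (sim_ell_hyp 0 3 a b)
  · rw [mul_comm]
    exact (p1.sum n8 (two_mul_cop o1' 3).symm).sim (sim_hyp_ell 1 2 a b)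

/-- The numbers are orders of suitable affine isometries. -/
theorem hasAff_maxOrd (i : Fin 13) :
    HasOddAff F (ell 3 a b) (maxOrd (Fintype.card F) i) ∨
      HasAff F (hyp F 3) (maxOrd (Fintype.card F) i) ∨ HasAff F (ell 2 a b) (maxOrd (Fintype.card F) i) := by
  classical
  set q := Fintype.card F with hq
  obtain ⟨c1, c2, c3, c4, c5, c6, o1, o1', o2, o2', o3, o3'⟩ := coprimes F
  obtain ⟨H, zh, wh, hzh, hwh, sH⟩ := exists_plane_hyp (F := F)
  obtain ⟨N, zn, wn, hzn, hwn, sN⟩ := exists_plane_ell a b hab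
  have p1 : HasOddAff F (hyp F 1) (q - 1) := by simpa using oddAff_plus (F := F) (d := 1) le_rfl
  have p2 : HasOddAff F (hyp F 2) (q ^ 2 - 1) := oddAff_plus (by norm_num)
  have p3 : HasOddAff F (hyp F 3) (q ^ 3 - 1) := oddAff_plus (by norm_num)
  have m1 : HasOddAff F (ell 0 a b) (q + 1) := by simpa using oddAff_minus a b hab (d := 1) le_rfl
  have m2 : HasOddAff F (ell 1 a b) (q ^ 2 + 1) := oddAff_minus a b hab (d := 2) (by norm_num)
  have m3 : HasOddAff F (ell 2 a b) (q ^ 3 + 1) := oddAff_minus a b hab (d := 3) (by norm_num)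
  have m4 : HasOddAff F (ell 3 a b) (q ^ 4 + 1) := oddAff_minus a b hab (d := 4) (by norm_num)
  have h2 : HasOddAff F (hyp F 1) 2 := oddAff_two _
  have n2 : HasOddAff F (ell 0 a b) 2 := oddAff_two _
  have h4 : HasAff F (hyp F 1) 4 := (hasAff_four hzh hwh).sim sH
  have n4 : HasAff F (ell 0 a b) 4 := (hasAff_four hzn hwn).sim sN
  have h8 : HasAff F (hyp F 2) 8 :=
    HasAff.sim (r := 8) ⟨four H zh wh, four_mem zh wh, _, orderOf_aff_four hzh hwh⟩ (sim_ext_hyp sH)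
  have n8 : HasAff F (ell 1 a b) 8 :=
    HasAff.sim (r := 8) ⟨four N zn wn, four_mem zn wn, _, orderOf_aff_four hzn hwn⟩ (sim_ext_ell a b sN)
  have hsq : q ^ 4 - 1 = (q ^ 2 + 1) * (q ^ 2 - 1) := by
    rw [← Nat.sq_sub_sq, ← pow_mul, one_pow]
  fin_cases i <;> simp only [maxOrd] <;> simp
  · exact Or.inl m4
  · rw [hsq]; exact Or.inl ((m2.sum p2 c3).sim (sim_ell_hyp 1 2 a b))
  · exact Or.inl ((p3.sum m1 c1).sim (sim_hyp_ell 3 0 a b))
  · exact Or.inl ((m3.sum p1 c2).sim (sim_ell_hyp 2 1 a b))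
  · rw [mul_comm]
    exact Or.inl ((m3.sum h2 (two_mul_cop o3 1).symm).sim (sim_ell_hyp 2 1 a b))
  · rw [mul_comm]
    exact Or.inl ((p3.sum n2 (two_mul_cop o3' 1).symm).sim (sim_hyp_ell 3 0 a b))
  · rw [mul_comm 2, mul_assoc]
    refine Or.inl ((m2.sum ((m1.sum n2 (two_mul_cop o1 1).symm).sim (sim_ell_ell a b hab 0 0)) ?_).sim
      (sim_ell_hyp 1 2 a b))
    exact Nat.Coprime.mul_right c4 (two_mul_cop o2 1).symm
  · rw [mul_comm 2, mul_assoc]
    refine Or.inl ((m2.sum ((p1.sum h2 (two_mul_cop o1' 1).symm).sim (sim_hyp_add 1 1)) ?_).sim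
      (sim_ell_hyp 1 2 a b))
    exact Nat.Coprime.mul_right c5 (two_mul_cop o2 1).symm
  · rw [mul_comm]
    refine Or.inl ((p2.sum ?_ (two_mul_cop o2' 1).symm).sim (sim_hyp_ell 2 1 a b))
    simpa using (h2.sum (HasOddAff.one (ell 0 a b)) (Nat.coprime_one_right _)).sim (sim_hyp_ell 1 0 a b)
  · rw [mul_comm]
    exact Or.inr (Or.inr ((m2.hasAff.sum h4 (two_mul_cop o2 2).symm).sim (sim_ell_hyp 1 1 a b)))
  · rw [mul_comm]
    exact Or.inr (Or.inr ((p2.hasAff.sum n4 (two_mul_cop o2' 2).symm).sim (sim_hyp_ell 2 0 a b)))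
  · rw [mul_comm]
    exact Or.inr (Or.inr ((m1.hasAff.sum h8 (two_mul_cop o1 3).symm).sim (sim_ell_hyp 0 2 a b)))
  · rw [mul_comm]
    exact Or.inr (Or.inr ((p1.hasAff.sum n8 (two_mul_cop o1' 3).symm).sim (sim_hyp_ell 1 1 a b)))

end Cfsg.Agent.Lie.SpEight
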